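import Cfsg.Agent.Lib.Characters.BrauerInduction
import Cfsg.Agent.Lib.Characters.Induction
import Cfsg.Agent.Lib.Characters.Generalized
import Cfsg.Agent.Lib.Involutions.ElementaryOdd
import Cfsg.Agent.Lib.Blocks.ClassCount

/-!
# Sums of characters over the elements of prime power order
-/

set_option autoImplicit false
set_option linter.style.haveILetI false
set_option linter.unusedSectionVars false

namespace CfsgLib.MathieuBlocks

open Cfsg CfsgLib CfsgLib.Characters
open scoped ComplexConjugate

universe u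

variable {G : Type u} [Group G] [Fintype G] {p : ℕ} [hp : Fact p.Prime]

open scoped Classical in
/-- The `p′`-part of the order times the indicator of the `p`-elements. -/
noncomputable def pElemInd (p : ℕ) (g : G) : ℂ :=
  if ∃ k, orderOf g = p ^ k then
    ((Nat.card G / p ^ (Nat.card G).factorization p : ℕ) : ℂ) else 0

theorem pElemInd_generalized : IsGeneralizedCharacter G (pElemInd (G := G) p) := by
  classical
  refine CfsgLib.Brauer.isGeneralizedCharacter_of_restrictions (fun g h => ?_) fun E q hq hE => ?_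
  · simp only [pElemInd]
    rw [show orderOf (h * g * h⁻¹) = orderOf g from (MulAut.conj h).orderOf_eq g]
  haveI := Involutions.isNilpotent_of_isElementary hq hE
  obtain ⟨P⟩ := (inferInstance : Nonempty (Sylow p E))
  haveI hPn : (P : Subgroup E).Normal := inferInstance
  haveI := P.unique_of_normal hPn
  have hmem : ∀ e : E, e ∈ (P : Subgroup E) ↔ ∃ k, orderOf (e : G) = p ^ k := by
    intro e
    rw [Subgroup.orderOf_coe]
    constructor
    · intro he
      obtain ⟨k, hk⟩ := IsPGroup.iff_orderOf.mp P.isPGroup' ⟨e, he⟩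
      exact ⟨k, (Subgroup.orderOf_coe (⟨e, he⟩ : (P : Subgroup E))).trans hk⟩
    · rintro ⟨k, hk⟩
      have hz : IsPGroup p (Subgroup.zpowers e) := IsPGroup.of_card (n := k) (by
        rw [Nat.card_zpowers, hk])
      obtain ⟨S, hS⟩ := hz.exists_le_sylow
      rw [Subsingleton.elim S P] at hS
      exact hS (Subgroup.mem_zpowers e)
  obtain ⟨c, hc⟩ : (P : Subgroup E).index ∣ Nat.card G / p ^ (Nat.card G).factorization p := by
    refine Nat.Coprime.dvd_of_dvd_mul_left ?_
      (by rw [Nat.ordProj_mul_ordCompl_eq_self]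
          exact (Subgroup.index_dvd_card _).trans (Subgroup.card_subgroup_dvd_card E))
    exact (Nat.Coprime.pow_left _ (hp.out.coprime_iff_not_dvd.mpr P.not_dvd_index)).symm
  have hchar : IsCharacter E
      (CfsgLib.Induction.indLinear (H := (P : Subgroup E)) (fun _ => (1 : ℂ))) :=
    CfsgLib.Induction.isCharacter_indFun _ CfsgLib.Induction.isCharacter_const_one
  have heq : (fun e : E => pElemInd p (e : G)) =
      (c : ℂ) • CfsgLib.Induction.indLinear (H := (P : Subgroup E)) (fun _ => (1 : ℂ)) := by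
    funext e
    change pElemInd p (e : G) = (c : ℂ) * indFun (P : Subgroup E) (fun _ => (1 : ℂ)) e
    simp only [pElemInd]
    by_cases he : e ∈ (P : Subgroup E)
    · rw [if_pos ((hmem e).mp he), hc]
      have h1 : indFun (P : Subgroup E) (fun _ => (1 : ℂ)) e = ((P : Subgroup E).index : ℂ) := by
        have h2 := CfsgLib.Induction.indFun_normal_apply (H := (P : Subgroup E))
          (fun _ => (1 : ℂ)) ⟨e, he⟩
        rw [Finset.sum_const, Finset.card_univ, ← Nat.card_eq_fintype_card, nsmul_one] at h2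
        rw [show indFun (P : Subgroup E) (fun _ => (1 : ℂ)) e = _ from h2,
          ← (P : Subgroup E).index_mul_card, Nat.cast_mul]
        field_simp [(Nat.cast_ne_zero.mpr Nat.card_pos.ne' : (Nat.card (P : Subgroup E) : ℂ) ≠ 0)]
      rw [h1, Nat.cast_mul, mul_comm]
    · rw [if_neg (fun h => he ((hmem e).mpr h)),
        CfsgLib.Induction.indFun_normal_eq_zero (H := (P : Subgroup E)) he, mul_zero]
  rw [heq]
  exact isGeneralizedCharacter_natCast_smul (isGeneralizedCharacter_of_isCharacter hchar) _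

open scoped Classical in
/-- The values of a character on the `p`-elements sum to a multiple of the `p`-part of the
order. -/
theorem exists_sum_pElements (χ : IrrCharacter G) :
    ∃ z : ℤ, ∑ g ∈ Finset.univ.filter (fun g : G => ∃ k, orderOf g = p ^ k), (χ : G → ℂ) g =
      ((p ^ (Nat.card G).factorization p : ℕ) : ℂ) * z := by
  obtain ⟨z, hz⟩ := classInner_generalized_int (pElemInd_generalized (G := G) (p := p))
    (isGeneralizedCharacter_irr χ)
  refine ⟨z, ?_⟩
  set m := Nat.card G / p ^ (Nat.card G).factorization p with hm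
  have hmp : p ^ (Nat.card G).factorization p * m = Nat.card G := Nat.ordProj_mul_ordCompl_eq_self _ p
  have hm0 : (m : ℂ) ≠ 0 := Nat.cast_ne_zero.mpr fun h0 => by
    rw [h0, mul_zero] at hmp; exact Nat.card_pos.ne hmp
  rw [classInner, inv_mul_eq_iff_eq_mul₀ (Nat.cast_ne_zero.mpr Nat.card_pos.ne')] at hz
  have h1 := congrArg conj hz
  simp only [pElemInd, ite_mul, zero_mul, ← Finset.sum_filter, map_sum, map_mul, map_natCast,
    Complex.conj_conj, map_intCast, ← hm, ← Finset.mul_sum] at h1
  refine mul_left_cancel₀ hm0 (h1.trans ?_)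
  rw [congrArg (fun n : ℕ => (n : ℂ)) hmp.symm]
  push_cast
  ring

/-- A real value at an element of order three is an integer congruent to the degree. -/
theorem exists_int_value_three (χ : IrrCharacter G) {x : G} (hx : orderOf x = 3)
    (hreal : IsConj x x⁻¹) {d : ℕ} (hd : (χ : G → ℂ) 1 = d) :
    ∃ a : ℤ, (χ : G → ℂ) x = a ∧ (3 : ℤ) ∣ (d : ℤ) + 2 * a := by
  classical
  haveI := Fintype.ofFinite (Subgroup.zpowers x)
  obtain ⟨m, hm⟩ := ClassCount.exists_mult χ (Subgroup.zpowers x)
  have hxinv : (χ : G → ℂ) x⁻¹ = (χ : G → ℂ) x :=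
    (classFunction_eq_of_isConj (irr_isClassFunction χ) hreal).symm
  have hsum : ∑ t : Subgroup.zpowers x, (χ : G → ℂ) ((t : G)⁻¹) =
      (d : ℂ) + 2 * (χ : G → ℂ) x := by
    rw [← Equiv.sum_comp (finEquivZPowers (isOfFinOrder_of_finite x)),
      ← Equiv.sum_comp (finCongr hx).symm, Fin.sum_univ_three]
    simp only [finEquivZPowers_apply, finCongr_symm, finCongr_apply, Fin.val_cast, Fin.val_zero,
      Fin.val_one, Fin.val_two, pow_zero, pow_one, inv_one, hd]
    rw [hxinv, show (x ^ 2)⁻¹ = x by
      rw [inv_eq_iff_mul_eq_one, ← pow_succ, show 2 + 1 = orderOf x from hx.symm, pow_orderOf_eq_one]]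
    ring
  rw [hsum, Nat.card_zpowers, hx] at hm
  have hr : (χ : G → ℂ) x = (((3 * (m : ℤ) - d : ℤ) : ℚ) / 2 : ℚ) := by
    push_cast
    linear_combination hm / 2
  have hint : IsIntegral ℤ ((((3 * (m : ℤ) - d : ℤ) : ℚ) / 2 : ℚ) : ℂ) := hr ▸ ClassCount.irr_isIntegral χ x
  obtain ⟨a, ha⟩ := IsIntegrallyClosed.isIntegral_iff.mp
    ((isIntegral_algebraMap_iff (R := ℤ) (A := ℚ) (B := ℂ) (algebraMap ℚ ℂ).injective).mp hint)
  have hxa : (χ : G → ℂ) x = a := by rw [hr, ← ha]; simp
  refine ⟨a, hxa, m, ?_⟩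
  rw [hxa] at hm
  exact_mod_cast hm

/-- Integrality of the central character at an element with integral value. -/
theorem dvd_of_value_int (χ : IrrCharacter G) (x : G) {a : ℤ} (ha : (χ : G → ℂ) x = a) {d : ℕ}
    (hd : (χ : G → ℂ) 1 = d) :
    (d : ℤ) ∣ ((Subgroup.centralizer ({x} : Set G)).index : ℤ) * a := by
  have h := ClassCount.centralChar_isIntegral χ x
  have hd0 : d ≠ 0 := fun h0 => irr_one_ne_zero χ (by rw [hd, h0, Nat.cast_zero])
  rw [centralChar, ha, hd] at h
  rw [Int.natCast_dvd]
  refine CharScalar.dvd_of_isIntegral_div hd0 ?_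
  obtain ⟨N, hN⟩ : ∃ N, N = (((Subgroup.centralizer ({x} : Set G)).index : ℤ) * a).natAbs := ⟨_, rfl⟩
  rw [← hN]
  rcases Int.natAbs_eq (((Subgroup.centralizer ({x} : Set G)).index : ℤ) * a) with e | e <;>
    rw [← hN] at e
  · have e' := congrArg (fun z : ℤ => (z : ℂ)) e
    simp only [Int.cast_mul, Int.cast_natCast] at e'
    rwa [← e']
  · have e' := congrArg (fun z : ℤ => (z : ℂ)) e
    simp only [Int.cast_mul, Int.cast_natCast, Int.cast_neg] at e'
    rw [e', neg_div] at h
    simpa using h.neg

end CfsgLib.MathieuBlocks
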