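import Cfsg.Agent.Lib.MathieuBlocks.Search
import Cfsg.Agent.Lib.MathieuBlocks.PElements
import Mathlib.GroupTheory.OrderOfElement

/-!
# Elements of order three: checked classes and centralizer orders, and the defect zero argument
-/

set_option autoImplicit false
set_option linter.style.haveILetI false
set_option linter.unusedSectionVars false

namespace CfsgLib.MathieuBlocks

open Cfsg CfsgLib.Golay CfsgLib.FusionMathieu CfsgLib.Schur.GolaySearch CfsgLib.Characters
open scoped Pointwise

/-- A closed list of distinct elements of the group. -/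
def groupListOK (inG : List ℕ → Bool) (E : List (List ℕ)) : Bool :=
  E.contains idL && decide E.Nodup &&
    E.all fun a => valid a && inG a && E.all fun b => E.contains (comp a b)

/-- Fixed and moved positions are not mixed. -/
def okT (x : List ℕ) (h y : ℕ) : Bool := Nat.beq (x.getD h 0) h == Nat.beq (x.getD y 0) y

/-- A list of transversal elements of the centralizer of `x` at `a` covers the admissible images. -/
def orbitOK (inG : List ℕ → Bool) (x : List ℕ) (a : ℕ) (T : List (List ℕ)) : Bool :=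
  decide (a < 24) && decide ((T.map fun t => t.getD a 0).Nodup) &&
    T.all (fun t => valid t && inG t && (comp t x == comp x t)) &&
    (List.range 24).all fun y => !(okT x a y) || (T.map fun t => t.getD a 0).contains y

variable {G : Subgroup (Equiv.Perm GolayPt)} {inG : List ℕ → Bool}

/-- The subgroup with the given list. -/
theorem exists_subgroup_of_list (hG : Tested G inG) {E : List (List ℕ)}
    (h : groupListOK inG E = true) :
    ∃ P : Subgroup G, (∀ g : G, g ∈ P ↔ toList g.1 ∈ E) ∧ Nat.card P = E.length := by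
  classical
  simp only [groupListOK, Bool.and_eq_true, List.all_eq_true, List.contains_iff_mem,
    decide_eq_true_eq] at h
  obtain ⟨⟨h1, hnd⟩, hall⟩ := h
  have hone : toList ((1 : G) : Equiv.Perm GolayPt) ∈ E := by
    show toList (1 : Equiv.Perm GolayPt) ∈ E
    rw [toList_one]; exact h1
  have hmul : ∀ a b : G, toList a.1 ∈ E → toList b.1 ∈ E → toList (a * b).1 ∈ E := fun a b ha hb => by
    rw [Subgroup.coe_mul, toList_mul]; exact (hall _ ha).2 _ hb
  have hpow : ∀ a : G, toList a.1 ∈ E → ∀ n : ℕ, toList (a ^ n).1 ∈ E := fun a ha n => by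
    induction n with
    | zero => simpa using hone
    | succ n ih => rw [pow_succ]; exact hmul _ _ ih ha
  let P : Subgroup G :=
    { carrier := {g | toList g.1 ∈ E}
      one_mem' := hone
      mul_mem' := fun {a b} ha hb => hmul a b ha hb
      inv_mem' := fun {a} ha => by
        show toList (a⁻¹).1 ∈ E
        rw [inv_eq_of_mul_eq_one_right (show a * a ^ (orderOf a - 1) = 1 by
          rw [← pow_succ', Nat.sub_add_cancel (orderOf_pos a), pow_orderOf_eq_one])]
        exact hpow a ha _ }
  refine ⟨P, fun g => Iff.rfl, ?_⟩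
  rw [← List.toFinset_card_of_nodup hnd, ← Nat.card_eq_finsetCard]
  refine Nat.card_congr (Equiv.ofBijective
    (fun g : P => (⟨toList g.1.1, List.mem_toFinset.mpr g.2⟩ : E.toFinset)) ⟨?_, ?_⟩)
  · intro a b hab
    exact Subtype.ext (Subtype.ext (toList_injective (congrArg Subtype.val hab)))
  · rintro ⟨l, hl⟩
    obtain ⟨⟨hv, hin⟩, -⟩ := hall l (List.mem_toFinset.mp hl)
    obtain ⟨σ, rfl⟩ := exists_perm_of_valid hv
    exact ⟨⟨⟨σ, (hG.mem σ).mpr hin⟩, List.mem_toFinset.mp hl⟩, rfl⟩

/-- Every `p`-element is conjugate into a subgroup of the order of a Sylow subgroup. -/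
theorem exists_conj_mem {Γ : Type*} [Group Γ] [Finite Γ] {p : ℕ} [Fact p.Prime] (P : Subgroup Γ)
    (hP : Nat.card P = p ^ (Nat.card Γ).factorization p) {u : Γ} {k : ℕ} (hu : orderOf u = p ^ k) :
    ∃ v ∈ P, IsConj v u := by
  let S : Sylow p Γ := Sylow.ofCard P hP
  obtain ⟨T, hT⟩ := (IsPGroup.of_card (G := Subgroup.zpowers u) (p := p) (n := k)
    (by rw [Nat.card_zpowers, hu])).exists_le_sylow
  obtain ⟨c, rfl⟩ := MulAction.exists_smul_eq Γ S T
  have h1 : u ∈ MulAut.conj c • P := hT (Subgroup.mem_zpowers u)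
  obtain ⟨v, hv, rfl⟩ := Subgroup.mem_pointwise_smul_iff_inv_smul_mem.mp h1 |> fun h =>
    (⟨_, h, smul_inv_smul (MulAut.conj c) u⟩ : ∃ v ∈ P, MulAut.conj c • v = u)
  exact ⟨v, hv, isConj_iff.mpr ⟨c, by simp [MulAut.smul_def]⟩⟩

theorem okT_of_comm {σ x : Equiv.Perm GolayPt} (h : σ * x = x * σ) {i : ℕ} (hi : i < 24) :
    okT (toList x) i ((toList σ).getD i 0) = true := by
  rw [okT, beq_iff_eq, Bool.eq_iff_iff, Nat.beq_eq, Nat.beq_eq, getD_comm h hi]
  exact ⟨fun h => by rw [h], fun h => toList_inj σ (toList_lt x hi) hi h⟩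

/-- The centralizer order from a complete list. -/
theorem natCard_centralizer_of_list (hG : Tested G inG) (x : G) (ss : List Stage)
    (hst : stagesOK (toList x.1) 0 ss = true) {ok : ℕ → ℕ → Bool} (hcand : candOK ok ss = true)
    (hok : ∀ σ ∈ G, σ * x.1 = x.1 * σ → ∀ h < 24, ok h ((toList σ).getD h 0) = true)
    (hnd : (cosearch inG (toList x.1) ss).Nodup) :
    Nat.card (Subgroup.centralizer ({x} : Set G)) = (cosearch inG (toList x.1) ss).length := by
  classical
  rw [← List.toFinset_card_of_nodup hnd, ← Nat.card_eq_finsetCard]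
  have hmem : ∀ g : G, g ∈ Subgroup.centralizer ({x} : Set G) →
      g.1 * x.1 = x.1 * g.1 := fun g hg =>
    congrArg Subtype.val (Subgroup.mem_centralizer_singleton_iff.mp hg)
  refine Nat.card_congr (Equiv.ofBijective (fun g : Subgroup.centralizer ({x} : Set G) =>
    (⟨toList g.1.1, List.mem_toFinset.mpr (mem_cosearch hG g.1.2 (hmem _ g.2) hst hcand
      (hok _ g.1.2 (hmem _ g.2)))⟩ : (cosearch inG (toList x.1) ss).toFinset)) ⟨?_, ?_⟩)
  · intro a b hab
    exact Subtype.ext (Subtype.ext (toList_injective (congrArg Subtype.val hab)))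
  · rintro ⟨l, hl⟩
    obtain ⟨σ, hσ, rfl, hc⟩ := of_mem_cosearch hG (List.mem_toFinset.mp hl)
    exact ⟨⟨⟨σ, hσ⟩, Subgroup.mem_centralizer_singleton_iff.mpr (Subtype.ext hc)⟩, rfl⟩

/-- The centralizer order from one orbit and the list of the stabilizer. -/
theorem natCard_centralizer_of_orbit (hG : Tested G inG) (x : G) (a : ℕ) (T : List (List ℕ))
    (hT : orbitOK inG (toList x.1) a T = true) (ss : List Stage)
    (hst : stagesOK (toList x.1) 0 ss = true)
    (hcand : candOK (fun h y => okT (toList x.1) h y && (!(Nat.beq h a) || Nat.beq y a)) ss = true)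
    (hnd : (cosearch inG (toList x.1) ss).Nodup)
    (hfix : ((cosearch inG (toList x.1) ss).all fun l => Nat.beq (l.getD a 0) a) = true) :
    Nat.card (Subgroup.centralizer ({x} : Set G)) =
      T.length * (cosearch inG (toList x.1) ss).length := by
  classical
  simp only [orbitOK, Bool.and_eq_true, decide_eq_true_eq] at hT
  obtain ⟨⟨⟨ha, hnT⟩, hTG⟩, hcov⟩ := hT
  set H := (Subgroup.centralizer ({x} : Set G)).map G.subtype with hH
  have hHmem : ∀ σ, σ ∈ H ↔ σ ∈ G ∧ σ * x.1 = x.1 * σ := fun σ => by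
    constructor
    · rintro ⟨g, hg, rfl⟩
      exact ⟨g.2, congrArg Subtype.val (Subgroup.mem_centralizer_singleton_iff.mp hg)⟩
    · rintro ⟨hσ, hc⟩
      exact ⟨⟨σ, hσ⟩, Subgroup.mem_centralizer_singleton_iff.mpr (Subtype.ext hc), rfl⟩
  have hcard : Nat.card H = Nat.card (Subgroup.centralizer ({x} : Set G)) :=
    (Nat.card_congr ((Subgroup.centralizer ({x} : Set G)).equivMapOfInjective G.subtype
      G.subtype_injective).toEquiv).symm
  set imgs := T.map fun t => t.getD a 0 with himgs
  let toPt : ℕ → GolayPt := fun i => pt ⟨i % 24, Nat.mod_lt _ (by norm_num)⟩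
  have hval : ∀ σ : Equiv.Perm GolayPt, toPt ((toList σ).getD a 0) = σ (pt ⟨a, ha⟩) := fun σ => by
    simp only [toPt, Nat.mod_eq_of_lt (toList_lt σ ha)]
    rw [← pt_idx (σ (pt ⟨a, ha⟩))]
    exact congrArg pt (Fin.ext (getD_toList_lt σ ha))
  have hTfin : (imgs.toFinset.image toPt).card = T.length := by
    rw [Finset.card_image_of_injOn, List.toFinset_card_of_nodup hnT, himgs, List.length_map]
    intro i hi j hj hij
    simp only [Finset.mem_coe, List.mem_toFinset, himgs, List.mem_map] at hi hj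
    obtain ⟨t, ht, rfl⟩ := hi
    obtain ⟨t', ht', rfl⟩ := hj
    simp only [List.all_eq_true, Bool.and_eq_true] at hTG
    obtain ⟨s, rfl⟩ := exists_perm_of_valid (hTG t ht).1.1
    obtain ⟨s', rfl⟩ := exists_perm_of_valid (hTG t' ht').1.1
    rw [hval, hval] at hij
    rw [getD_toList_lt s ha, getD_toList_lt s' ha, hij]
  have hstab : Nat.card ↥(H ⊓ MulAction.stabilizer (Equiv.Perm GolayPt) (pt ⟨a, ha⟩)) =
      (cosearch inG (toList x.1) ss).length := by
    rw [← List.toFinset_card_of_nodup hnd, ← Nat.card_eq_finsetCard]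
    refine Nat.card_congr (Equiv.ofBijective
      (fun g : ↥(H ⊓ MulAction.stabilizer (Equiv.Perm GolayPt) (pt ⟨a, ha⟩)) =>
        (⟨toList g.1, List.mem_toFinset.mpr (mem_cosearch hG ((hHmem _).mp g.2.1).1
          ((hHmem _).mp g.2.1).2 hst hcand (fun i hi => by
            rw [okT_of_comm ((hHmem _).mp g.2.1).2 hi, Bool.true_and, Bool.or_eq_true]
            by_cases hia : i = a
            · subst hia
              right
              rw [Nat.beq_eq, getD_toList_lt _ ha,
                show g.1 (pt ⟨i, ha⟩) = pt ⟨i, ha⟩ from g.2.2, idx_pt]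
            · left
              cases hb : Nat.beq i a with
              | false => rfl
              | true => exact absurd (Nat.eq_of_beq_eq_true hb) hia))⟩ :
          (cosearch inG (toList x.1) ss).toFinset)) ⟨?_, ?_⟩)
    · intro g g' hgg
      exact Subtype.ext (toList_injective (congrArg Subtype.val hgg))
    · rintro ⟨l, hl⟩
      have hl' := List.mem_toFinset.mp hl
      obtain ⟨σ, hσ, rfl, hc⟩ := of_mem_cosearch hG hl'
      have hfa := Nat.eq_of_beq_eq_true (List.all_eq_true.mp hfix _ hl')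
      refine ⟨⟨σ, (hHmem σ).mpr ⟨hσ, hc⟩, ?_⟩, rfl⟩
      rw [getD_toList_lt σ ha] at hfa
      show σ (pt ⟨a, ha⟩) = pt ⟨a, ha⟩
      rw [← pt_idx (σ (pt ⟨a, ha⟩))]
      exact congrArg pt (Fin.ext hfa)
  rw [← hcard, natCard_eq_ncard_mul_natCard H (pt ⟨a, ha⟩) (imgs.toFinset.image toPt) ?_ ?_, hTfin,
    hstab]
  · intro σ hσ
    have h1 := List.all_eq_true.mp hcov _ (List.mem_range.mpr (toList_lt σ ha))
    rw [okT_of_comm ((hHmem σ).mp hσ).2 ha] at h1
    refine Finset.mem_image.mpr ⟨(toList σ).getD a 0, List.mem_toFinset.mpr ?_, hval σ⟩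
    simpa [himgs] using h1
  · intro q hq
    obtain ⟨i, hi, rfl⟩ := Finset.mem_image.mp hq
    obtain ⟨t, ht, rfl⟩ := List.mem_map.mp (List.mem_toFinset.mp hi)
    simp only [List.all_eq_true, Bool.and_eq_true, beq_iff_eq] at hTG
    obtain ⟨⟨hv, hin⟩, hc⟩ := hTG t ht
    obtain ⟨s, rfl⟩ := exists_perm_of_valid hv
    refine ⟨s, (hHmem s).mpr ⟨(hG.mem s).mpr hin, toList_injective ?_⟩, (hval s).symm⟩
    rw [toList_mul, toList_mul, hc]

/-- The squared values on a set of elements are at most the group order. -/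
theorem sum_normSq_le {Γ : Type*} [Group Γ] [Fintype Γ] (χ : IrrCharacter Γ) (S : Finset Γ) :
    ∑ g ∈ S, Complex.normSq ((χ : Γ → ℂ) g) ≤ (Nat.card Γ : ℝ) := by
  have h1 := classInner_irr_self χ.2
  rw [classInner, inv_mul_eq_iff_eq_mul₀ (Nat.cast_ne_zero.mpr Nat.card_pos.ne'), mul_one] at h1
  have h2 := congrArg Complex.re h1
  simp only [Complex.re_sum, Complex.mul_re, Complex.natCast_re] at h2
  rw [← h2]
  refine (Finset.sum_le_sum_of_subset_of_nonneg (Finset.subset_univ S)
    fun g _ _ => Complex.normSq_nonneg _).trans (le_of_eq ?_)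
  exact Finset.sum_congr rfl fun g _ => by simp [Complex.normSq_apply]

open scoped Classical in
/-- The constraints on the degree and the value at one class of elements of order three. -/
theorem three_constraints {Γ : Type*} [Group Γ] [Fintype Γ] (χ : IrrCharacter Γ) {n : ℕ}
    (x : Fin n → Γ) (hx : ∀ i, orderOf (x i) = 3) (hreal : ∀ i, IsConj (x i) (x i)⁻¹)
    (hdist : ∀ i j, IsConj (x i) (x j) → i = j)
    (hcover : ∀ g : Γ, (∃ k, orderOf g = 3 ^ k) → g = 1 ∨ ∃ i, IsConj (x i) g)
    (N : Fin n → ℕ) (hN : ∀ i, (Subgroup.centralizer ({x i} : Set Γ)).index = N i) :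
    ∃ (a : Fin n → ℤ), (∀ i, (charDegree (χ : Γ → ℂ) : ℤ) ∣ (N i : ℤ) * a i) ∧
      (∀ i, (3 : ℤ) ∣ (charDegree (χ : Γ → ℂ) : ℤ) + 2 * a i) ∧
      ((3 ^ (Nat.card Γ).factorization 3 : ℕ) : ℤ) ∣
        (charDegree (χ : Γ → ℂ) : ℤ) + ∑ i, (N i : ℤ) * a i ∧
      (charDegree (χ : Γ → ℂ) : ℤ) ^ 2 + ∑ i, (N i : ℤ) * a i ^ 2 ≤ (Nat.card Γ : ℤ) := by
  haveI : Fact (Nat.Prime 3) := ⟨by norm_num⟩
  set d := charDegree (χ : Γ → ℂ) with hd
  have hd1 : (χ : Γ → ℂ) 1 = (d : ℂ) := (ClassCount.degree_eq χ).1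
  choose a ha ha3 using fun i => exists_int_value_three χ (hx i) (hreal i) hd1
  refine ⟨a, fun i => hN i ▸ dvd_of_value_int χ (x i) (ha i) hd1, ha3, ?_, ?_⟩
  all_goals
    have hdisj : Set.PairwiseDisjoint (Finset.univ : Finset (Fin n))
        (fun i => Finset.univ.filter fun g : Γ => IsConj (x i) g) := by
      intro i _ j _ hij
      rw [Function.onFun, Finset.disjoint_left]
      intro g hgi hgj
      exact hij (hdist i j ((Finset.mem_filter.mp hgi).2.trans (Finset.mem_filter.mp hgj).2.symm))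
    set T := Finset.univ.biUnion fun i => Finset.univ.filter fun g : Γ => IsConj (x i) g with hTdef
    have h1T : (1 : Γ) ∉ T := by
      simp only [hTdef, Finset.mem_biUnion, Finset.mem_filter, Finset.mem_univ, true_and, not_exists]
      intro i hi
      have h3 := hx i
      rw [isConj_one_left.mp hi, orderOf_one] at h3
      exact absurd h3 (by norm_num)
    have hcardC : ∀ i, ((Finset.univ.filter fun g : Γ => IsConj (x i) g).card) = N i := fun i => by
      rw [← hN i, ← Blocks.natCard_isConj (x i), Nat.card_eq_fintype_card, Fintype.card_subtype]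
    have hconst : ∀ i, ∀ g ∈ Finset.univ.filter (fun g : Γ => IsConj (x i) g),
        (χ : Γ → ℂ) g = (a i : ℂ) := fun i g hg => by
      rw [← ha i]
      exact (classFunction_eq_of_isConj (irr_isClassFunction χ) (Finset.mem_filter.mp hg).2).symm
  · have hset : Finset.univ.filter (fun g : Γ => ∃ k, orderOf g = 3 ^ k) = insert 1 T := by
      ext g
      simp only [Finset.mem_filter, Finset.mem_univ, true_and, Finset.mem_insert, hTdef,
        Finset.mem_biUnion]
      refine ⟨hcover g, ?_⟩
      rintro (rfl | ⟨i, hi⟩)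
      · exact ⟨0, by simp⟩
      · refine ⟨1, ?_⟩
        obtain ⟨c, rfl⟩ := isConj_iff.mp hi
        rw [pow_one, show c * x i * c⁻¹ = MulAut.conj c (x i) from rfl, MulEquiv.orderOf_eq, hx i]
    obtain ⟨z, hz⟩ := exists_sum_pElements (p := 3) χ
    rw [hset, Finset.sum_insert h1T, hTdef, Finset.sum_biUnion hdisj, hd1,
      Finset.sum_congr rfl fun i _ => (Finset.sum_congr rfl (hconst i)).trans
        ((Finset.sum_const _).trans (by rw [hcardC i, nsmul_eq_mul]))] at hz
    refine ⟨z, ?_⟩
    exact_mod_cast hz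
  · have hle := sum_normSq_le χ (insert 1 T)
    rw [Finset.sum_insert h1T, hTdef, Finset.sum_biUnion hdisj, hd1,
      Finset.sum_congr rfl fun i _ => (Finset.sum_congr rfl fun g hg =>
        (congrArg Complex.normSq (hconst i g hg))).trans
        ((Finset.sum_const _).trans (by rw [hcardC i, nsmul_eq_mul]))] at hle
    simp only [Complex.normSq_natCast, Complex.normSq_intCast] at hle
    rw [← Int.cast_le (R := ℝ)]
    push_cast
    simp only [pow_two]
    exact hle

end CfsgLib.MathieuBlocks
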