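import Cfsg.Agent.Lib.MathieuBlocks.Involution
import Cfsg.Agent.Lib.MathieuBlocks.Three
import Cfsg.Agent.Lib.FusionMathieu.Groups

/-!
# Assembling the certificates
-/

set_option autoImplicit false
set_option linter.style.haveILetI false

namespace CfsgLib.MathieuBlocks

open Cfsg CfsgLib.Golay CfsgLib.FusionMathieu

theorem factorization_eq_of {p v m n : ℕ} (hp : p.Prime) (hn : n = p ^ v * m) (hm : ¬ p ∣ m) :
    n.factorization p = v := by
  have hm0 : m ≠ 0 := fun h => hm (h ▸ dvd_zero p)
  rw [hn, Nat.factorization_mul (pow_ne_zero _ hp.ne_zero) hm0, Finsupp.add_apply,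
    hp.factorization_pow, Finsupp.single_eq_same, Nat.factorization_eq_zero_of_not_dvd hm, add_zero]

/-- Selection of involutions. -/
def selTwo (l : List ℕ) : Bool := (comp l l == idL) && !(l == idL)

/-- Selection of non-identity elements. -/
def selNe (l : List ℕ) : Bool := !(l == idL)

/-- Every element of the list has cube one. -/
def cubeOK (E : List (List ℕ)) : Bool := E.all fun l => comp (comp l l) l == idL

/-- The two lists are inverse to each other by squaring. -/
def sqInvOK (inG : List ℕ → Bool) (x g : List ℕ) : Bool :=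
  (comp (comp x x) x == idL) && !(x == idL) && conjOK inG x (comp x x) g

/-- A permutation list with a fixed position. -/
def hasFix (l : List ℕ) : Bool := (List.range 24).any fun i => Nat.beq (l.getD i 0) i

variable {G : Subgroup (Equiv.Perm GolayPt)} {inG : List ℕ → Bool}

theorem exists_elem (hG : Tested G inG) {l : List ℕ} (h : (valid l && inG l) = true) :
    ∃ x : G, toList x.1 = l := by
  rw [Bool.and_eq_true] at h
  obtain ⟨σ, rfl⟩ := exists_perm_of_valid h.1
  exact ⟨⟨σ, (hG.mem σ).mpr h.2⟩, rfl⟩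

theorem ne_one_of_selNe {u : G} (h : selNe (toList u.1) = true) : u ≠ 1 := by
  rintro rfl
  rw [selNe, Subgroup.coe_one, toList_one] at h
  exact absurd h (by decide)

theorem toList_ne_idL {u : G} (h : u ≠ 1) : toList u.1 ≠ idL := fun e =>
  h (Subtype.ext (toList_injective (e.trans (toList_one).symm)))

theorem real_three (hG : Tested G inG) {x : G} {g : List ℕ}
    (h : sqInvOK inG (toList x.1) g = true) : orderOf x = 3 ∧ IsConj x x⁻¹ := by
  simp only [sqInvOK, Bool.and_eq_true, beq_iff_eq, Bool.not_eq_true', beq_eq_false_iff_ne] at h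
  obtain ⟨⟨h3, hne⟩, hc⟩ := h
  have hx3 : x ^ 3 = 1 := by
    apply Subtype.ext
    apply toList_injective
    show toList (x.1 ^ 3) = toList (1 : Equiv.Perm GolayPt)
    rw [pow_succ, pow_two, toList_mul, toList_mul, toList_one]
    exact h3
  have hx1 : x ≠ 1 := by
    rintro rfl
    exact hne (by rw [Subgroup.coe_one, toList_one]; rfl)
  haveI : Fact (Nat.Prime 3) := ⟨by norm_num⟩
  refine ⟨orderOf_eq_prime hx3 hx1, ?_⟩
  rw [inv_eq_of_mul_eq_one_right (show x * (x * x) = 1 by rw [← mul_assoc, ← hx3, pow_succ, pow_two])]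
  refine isConj_of_conjOK hG (g := g) ?_
  rw [Subgroup.coe_mul, toList_mul]
  exact hc

theorem not_isConj_of_hasFix {x y : G} (hx : hasFix (toList x.1) = true)
    (hy : hasFix (toList y.1) = false) : ¬ IsConj x y := by
  intro hc
  obtain ⟨c, rfl⟩ := isConj_iff.mp hc
  simp only [hasFix, List.any_eq_true, List.mem_range, Nat.beq_eq] at hx
  obtain ⟨i, hi, hfix⟩ := hx
  refine Bool.eq_false_iff.mp hy ?_
  simp only [hasFix, List.any_eq_true, List.mem_range, Nat.beq_eq]
  refine ⟨(toList c.1).getD i 0, toList_lt c.1 hi, ?_⟩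
  show (toList (c.1 * x.1 * c.1⁻¹)).getD ((toList c.1).getD i 0) 0 = _
  rw [← getD_toList_mul _ _ hi, inv_mul_cancel_right, getD_toList_mul _ _ hi, hfix]

/-- Conjugation of the elements of order two onto representatives. -/
theorem exists_involution_rep (hG : Tested G inG) {gens reps : List (List ℕ)}
    {certs : List (ℕ × List ℕ)} {v : ℕ} (hv : (Nat.card G).factorization 2 = v)
    (hlen : gens.length = v) (hgens : gens.all inG = true) (hchain : chainOk gens = true)
    (hcov : coverOK inG selTwo (elts gens) reps certs = true) {u : G} (hu : orderOf u = 2) :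
    ∃ k < reps.length, ∀ x : G, toList x.1 = reps.getD k [] → IsConj x u := by
  haveI : Fact (Nat.Prime 2) := ⟨Nat.prime_two⟩
  obtain ⟨P₀, hP₀, hcard, hclos⟩ := exists_chain gens hchain
  have hle : P₀ ≤ G := by
    rw [hclos, Subgroup.closure_le]
    intro σ hσ
    exact (hG.mem σ).mpr (List.all_eq_true.mp hgens _ hσ)
  obtain ⟨w, hw, hwu⟩ := exists_conj_mem (p := 2) (P₀.subgroupOf G) (by
    rw [hv, ← hlen, ← hcard]
    exact Nat.card_congr (Subgroup.subgroupOfEquivOfLe hle).toEquiv) (u := u) (k := 1)
    (hu.trans (pow_one 2).symm)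
  have how : orderOf w = 2 := by
    obtain ⟨c, rfl⟩ := isConj_iff.mp hwu
    rw [← hu]
    exact ((MulAut.conj c).orderOf_eq w).symm
  have hsel : selTwo (toList w.1) = true := by
    have h2 : w.1 * w.1 = 1 := congrArg Subtype.val (show w * w = 1 by
      rw [← pow_two, ← how, pow_orderOf_eq_one])
    simp only [selTwo, Bool.and_eq_true, Bool.not_eq_true', beq_eq_false_iff_ne, beq_iff_eq]
    refine ⟨by rw [← toList_mul, h2, toList_one]; rfl, toList_ne_idL fun e => ?_⟩
    rw [e, orderOf_one] at how
    exact absurd how (by norm_num)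
  obtain ⟨k, hk, hrep⟩ := exists_rep hG hcov (u := w) ((hP₀.1 w.1).mp hw) hsel
  exact ⟨k, hk, fun x hx => (hrep x hx).trans hwu⟩

/-- Conjugation of the non-trivial elements of three-power order onto representatives. -/
theorem exists_three_rep (hG : Tested G inG) {E reps : List (List ℕ)}
    {certs : List (ℕ × List ℕ)} {v : ℕ} (hv : (Nat.card G).factorization 3 = v)
    (hlist : groupListOK inG E = true) (hlen : E.length = 3 ^ v)
    (hcov : coverOK inG selNe E reps certs = true) {u : G} (hu : ∃ k, orderOf u = 3 ^ k) :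
    u = 1 ∨ ∃ k < reps.length, ∀ x : G, toList x.1 = reps.getD k [] → IsConj x u := by
  haveI : Fact (Nat.Prime 3) := ⟨by norm_num⟩
  obtain ⟨k, hk⟩ := hu
  obtain ⟨P, hPmem, hPcard⟩ := exists_subgroup_of_list hG hlist
  obtain ⟨w, hw, hwu⟩ := exists_conj_mem (p := 3) P (by rw [hPcard, hlen, hv]) hk
  by_cases hw1 : w = 1
  · subst hw1
    exact Or.inl (isConj_one_right.mp hwu)
  · obtain ⟨i, hi, hrep⟩ := exists_rep hG hcov (u := w) ((hPmem w).mp hw)
      (by simpa [selNe] using toList_ne_idL hw1)
    exact Or.inr ⟨i, hi, fun x hx => (hrep x hx).trans hwu⟩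

end CfsgLib.MathieuBlocks
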