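import Cfsg.Agent.Lib.Blocks.SingleBlock
import Cfsg.Agent.Lib.Blocks.ThirdMain
import Cfsg.Agent.Lib.Blocks.DefectInduced
import Cfsg.Agent.Lib.BlockCover.BrauerHom
import Cfsg.Agent.Lib.BlockCover.DefectGroup

/-!
# A criterion for a single block

If there is no character of defect zero and the centralizer of each element of order `p` has a
normal `p`-subgroup containing its centralizer, then there is only one `p`-block.
-/

set_option autoImplicit false
set_option linter.style.haveILetI false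
set_option linter.unusedSectionVars false

namespace CfsgLib.MathieuBlocks

open Cfsg CfsgLib CfsgLib.Characters CfsgLib.Blocks

universe u

variable {G : Type u} [Group G] [Finite G] {p : ℕ} {M : Ideal AlgInt}

/-- The local condition at an element. -/
def LocallyConstrained (p : ℕ) (u : G) : Prop :=
  ∃ Q : Subgroup G, Q ≤ Subgroup.centralizer ({u} : Set G) ∧ IsPGroup p Q ∧
    Subgroup.centralizer ({u} : Set G) ≤ Subgroup.normalizer (Q : Set G) ∧
    Subgroup.centralizer (Q : Set G) ⊓ Subgroup.centralizer ({u} : Set G) ≤ Q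

theorem LocallyConstrained.conj {u : G} (h : LocallyConstrained p u) (t : G) :
    LocallyConstrained p (t * u * t⁻¹) := by
  obtain ⟨Q, h1, h2, h3, h4⟩ := h
  have hmem : ∀ c : G, c ∈ Subgroup.centralizer ({t * u * t⁻¹} : Set G) →
      t⁻¹ * c * t ∈ Subgroup.centralizer ({u} : Set G) := by
    intro c hc
    rw [Subgroup.mem_centralizer_singleton_iff] at hc ⊢
    calc t⁻¹ * c * t * u = t⁻¹ * (c * (t * u * t⁻¹)) * t := by group
      _ = t⁻¹ * ((t * u * t⁻¹) * c) * t := by rw [hc]
      _ = u * (t⁻¹ * c * t) := by group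
  refine ⟨Q.map (MulAut.conj t).toMonoidHom, ?_, h2.map _, ?_, ?_⟩
  · rintro _ ⟨q, hq, rfl⟩
    have := Subgroup.mem_centralizer_singleton_iff.1 (h1 hq)
    refine Subgroup.mem_centralizer_singleton_iff.2 ?_
    simp only [MulEquiv.coe_toMonoidHom, MulAut.conj_apply]
    calc t * q * t⁻¹ * (t * u * t⁻¹) = t * (q * u) * t⁻¹ := by group
      _ = t * (u * q) * t⁻¹ := by rw [this]
      _ = t * u * t⁻¹ * (t * q * t⁻¹) := by group
  · intro c hc
    have hn := Subgroup.mem_normalizer_iff.1 (h3 (hmem c hc))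
    refine Subgroup.mem_normalizer_iff.2 fun n => ⟨?_, ?_⟩
    · rintro ⟨q, hq, rfl⟩
      refine ⟨t⁻¹ * c * t * q * (t⁻¹ * c * t)⁻¹, (hn q).1 hq, ?_⟩
      simp only [MulEquiv.coe_toMonoidHom, MulAut.conj_apply]
      group
    · rintro ⟨q, hq, hqe⟩
      simp only [MulEquiv.coe_toMonoidHom, MulAut.conj_apply] at hqe
      refine ⟨t⁻¹ * n * t, (hn _).2 ?_, by
        simp only [MulEquiv.coe_toMonoidHom, MulAut.conj_apply]; group⟩
      rw [show t⁻¹ * c * t * (t⁻¹ * n * t) * (t⁻¹ * c * t)⁻¹ = t⁻¹ * (c * n * c⁻¹) * t by group,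
        ← hqe]
      rwa [show t⁻¹ * (t * q * t⁻¹) * t = q by group]
  · rintro c ⟨hc1, hc2⟩
    refine ⟨t⁻¹ * c * t, h4 ⟨?_, hmem c hc2⟩, by
      simp only [MulEquiv.coe_toMonoidHom, MulAut.conj_apply]; group⟩
    refine Subgroup.mem_centralizer_iff.2 fun q hq => ?_
    have := Subgroup.mem_centralizer_iff.1 hc1 (t * q * t⁻¹) ⟨q, hq, rfl⟩
    calc q * (t⁻¹ * c * t) = t⁻¹ * (t * q * t⁻¹ * c) * t := by group
      _ = t⁻¹ * (c * (t * q * t⁻¹)) * t := by rw [this]
      _ = t⁻¹ * c * t * q := by group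

/-- **Criterion for a single block.** -/
theorem mem_principalBlock_of_constrained (hM : IsPModular p M)
    (hzero : ∀ χ : IrrCharacter G, ¬ p ^ (Nat.card G).factorization p ∣ charDegree (χ : G → ℂ))
    (hloc : ∀ u : G, orderOf u = p → LocallyConstrained p u) (χ : IrrCharacter G) :
    χ ∈ principalBlock M G := by
  classical
  haveI := Fintype.ofFinite G
  haveI : Fact p.Prime := ⟨hM.1⟩
  set B := blockOf M (χ : G → ℂ) with hBdef
  have hB : IsPBlock M B := isPBlock_blockOf χ
  obtain ⟨D, hD⟩ := exists_isDefectGroup hM hB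
  have hcard := BlockCover.natCard_defect hM hB hD
  have hpos : 0 < blockDefect p B := by
    refine Nat.pos_of_ne_zero fun h0 => hzero χ ?_
    have hne : ((fun η : IrrCharacter G => (charDegree (η : G → ℂ)).factorization p) '' B).Nonempty :=
      ⟨_, χ, mem_blockOf_self hM χ, rfl⟩
    have hle := Nat.sInf_le (s := (fun η : IrrCharacter G =>
      (charDegree (η : G → ℂ)).factorization p) '' B) ⟨χ, mem_blockOf_self hM χ, rfl⟩
    rw [blockDefect] at h0
    have hd := (CfsgLib.ClassCount.degree_eq χ).2.2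
    refine (hM.1.pow_dvd_iff_le_factorization hd.ne').2 ?_
    simp only [] at hle
    omega
  obtain ⟨u', hu'⟩ := exists_prime_orderOf_dvd_card' (G := D) p (by
    rw [hcard]; exact dvd_pow_self p hpos.ne')
  set u : G := (u' : G) with hu
  have huo : orderOf u = p := by rw [hu, Subgroup.orderOf_coe, hu']
  set P := Subgroup.zpowers u with hPdef
  have hP : IsPGroup p P := IsPGroup.of_card (n := 1) (by rw [Nat.card_zpowers, huo, pow_one])
  set H := Subgroup.centralizer ({u} : Set G) with hHdef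
  have hPH : P ≤ H := Subgroup.zpowers_le.2 (Subgroup.mem_centralizer_singleton_iff.2 rfl)
  have hCH : Subgroup.centralizer (P : Set G) ≤ H :=
    Subgroup.centralizer_le (Set.singleton_subset_iff.2 (Subgroup.mem_zpowers u))
  have hHC : H ≤ Subgroup.centralizer (P : Set G) := fun h hh =>
    Subgroup.mem_centralizer_iff.2 fun y hy => by
      obtain ⟨k, rfl⟩ := Subgroup.mem_zpowers_iff.1 hy
      exact (Commute.zpow_left
        (show Commute u h from (Subgroup.mem_centralizer_singleton_iff.1 hh).symm) k)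
  have hHN : H ≤ Subgroup.normalizer (P : Set G) :=
    hHC.trans (Subgroup.centralizer_le_normalizer _)
  have hne := (BlockCover.exists_conj_le_defect_iff hM hB hD hP).2 ⟨1, by
    rintro _ ⟨y, hy, rfl⟩
    simpa using (Subgroup.zpowers_le.2 u'.2) hy⟩
  obtain ⟨b, hb⟩ := (BlockCover.exists_induced_iff hM hP hPH hCH hHN hB).2 hne
  obtain ⟨Q, hQH, hQp, hQn, hQC⟩ := hloc u huo
  haveI : (Q.subgroupOf H).Normal := (Subgroup.normal_subgroupOf_iff_le_normalizer hQH).2 hQn
  have huniv := SingleBlock.principalBlock_eq_univ hM (Q.subgroupOf H)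
    (hQp.comap_of_injective _ H.subtype_injective) (by
      intro c hc
      refine hQC ⟨Subgroup.mem_centralizer_iff.2 fun q hq => ?_, c.2⟩
      exact congrArg Subtype.val (Subgroup.mem_centralizer_iff.1 hc ⟨q, hQH hq⟩ hq))
  have hbp : b = principalBlock M H := by
    obtain ⟨ξ, hξ⟩ := IsPBlock.nonempty hM hb.1
    rw [IsPBlock.eq_blockOf hM hb.1 hξ]
    exact (IsPBlock.eq_blockOf hM (isPBlock_principalBlock M) (huniv ▸ Set.mem_univ ξ)).symm
  have hBp := (isInducedBlock_principal_iff hM H ⟨B, hb⟩).2 hbp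
  obtain ⟨ξ, hξ⟩ := IsPBlock.nonempty hM hb.1
  intro g
  have h1 := hb.2.2 ξ hξ χ (mem_blockOf_self hM χ) g
  have h2 := hBp.2.2 ξ hξ (principalIrr G) (principalIrr_mem hM) g
  have h3 := MemLocalIdeal.sub hM h1 h2
  simp only [sub_sub_sub_cancel_left] at h3
  exact h3

end CfsgLib.MathieuBlocks
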