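import Cfsg.Agent.Lib.MathieuBlocks.Search

/-!
# A checked certificate that an involution centralizer is constrained
-/

set_option autoImplicit false
set_option linter.style.haveILetI false
set_option linter.unusedSectionVars false

namespace CfsgLib.MathieuBlocks

open Cfsg CfsgLib.Golay CfsgLib.FusionMathieu CfsgLib.Schur.GolaySearch
open scoped Pointwise

/-- Every mask of the list is preserved. -/
def presW (W : List ℕ) (l : List ℕ) : Bool := W.all fun w => Nat.beq (pmap l w) w

/-- The masks of the list do not separate the two positions. -/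
def okW (W : List ℕ) (h y : ℕ) : Bool := W.all fun w => (w.testBit h == w.testBit y)

/-- The two positions have the same stabilizer in the list. -/
def sameStab (L : List (List ℕ)) (h y : ℕ) : Bool :=
  L.all fun l => (Nat.beq (l.getD h 0) h == Nat.beq (l.getD y 0) y)

/-- Candidates for a centralizing element fixing `a0`. -/
def okB (L : List (List ℕ)) (a0 h y : ℕ) : Bool :=
  sameStab L h y && (!((L.map fun l => l.getD a0 0).contains h) || Nat.beq y h)

/-- The subgroup of the centralizer preserving the masks, as a list. -/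
def kernelList (inG : List ℕ → Bool) (z : List ℕ) (W : List ℕ) (ssA : List Stage) : List (List ℕ) :=
  (cosearch inG z ssA).filter (presW W)

/-- The certificate. -/
def localOK (inG : List ℕ → Bool) (z : List ℕ) (W : List ℕ) (ssA ssB : List Stage) (a0 : ℕ) :
    Bool :=
  let L := kernelList inG z W ssA
  W.all (fun w => decide (w < 2 ^ 24)) && stagesOK z 0 ssA && candOK (okW W) ssA &&
    L.all (fun l => comp l l == idL) && decide (a0 < 24) &&
    ((List.range 24).all fun y => !(sameStab L a0 y) || (L.map fun l => l.getD a0 0).contains y) &&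
    stagesOK z 0 ssB && candOK (okB L a0) ssB &&
    (cosearch inG z ssB).all fun l => !(L.all fun q => comp l q == comp q l) || L.contains l

theorem pmap_eq_iff_smul {σ : Equiv.Perm GolayPt} {w : ℕ} (hw : w < 2 ^ 24) :
    pmap (toList σ) w = w ↔ σ • decS w = decS w := by
  constructor
  · intro h
    refine encS_injective ?_
    rw [encS_smul, encS_decS hw, h]
  · intro h
    conv_lhs => rw [← encS_decS hw, ← encS_smul, h, encS_decS hw]

variable {G : Subgroup (Equiv.Perm GolayPt)} {inG : List ℕ → Bool}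

theorem locallyConstrained_of_check (hG : Tested G inG) (z : G) {lz : List ℕ}
    (hz : toList z.1 = lz) (W : List ℕ) (ssA ssB : List Stage) (a0 : ℕ)
    (hperm : ∀ σ ∈ G, σ * z.1 = z.1 * σ → ∀ w ∈ W, pmap (toList σ) w ∈ W)
    (h : localOK inG lz W ssA ssB a0 = true) : LocallyConstrained 2 z := by
  subst hz
  simp only [localOK, Bool.and_eq_true] at h
  obtain ⟨⟨⟨⟨⟨⟨⟨⟨hW, hstA⟩, hcandA⟩, hinv⟩, ha0⟩, hcover⟩, hstB⟩, hcandB⟩, hfinal⟩ := h
  simp only [List.all_eq_true, decide_eq_true_eq] at hW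
  simp only [decide_eq_true_eq] at ha0
  let Q : Subgroup G := Subgroup.centralizer ({z} : Set G) ⊓
    (⨅ w ∈ W, MulAction.stabilizer (Equiv.Perm GolayPt) (decS w)).comap G.subtype
  have hQmem : ∀ g : G, g ∈ Q ↔ (g.1 * z.1 = z.1 * g.1 ∧ ∀ w ∈ W, g.1 • decS w = decS w) := by
    intro g
    simp only [Q, Subgroup.mem_inf, Subgroup.mem_centralizer_singleton_iff, Subgroup.mem_comap,
      Subgroup.mem_iInf, MulAction.mem_stabilizer_iff, Subgroup.coe_subtype]
    exact and_congr ⟨fun h => congrArg Subtype.val h, fun h => Subtype.ext h⟩ Iff.rfl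
  set L := kernelList inG (toList z.1) W ssA with hL
  have hQlist : ∀ g : G, g ∈ Q ↔ toList g.1 ∈ L := by
    intro g
    rw [hQmem, hL, kernelList, List.mem_filter]
    constructor
    · rintro ⟨hc, hs⟩
      refine ⟨mem_cosearch hG g.2 hc hstA hcandA fun i hi => ?_, ?_⟩
      · refine List.all_eq_true.mpr fun w hw => beq_iff_eq.mpr ?_
        have h1 : (pt ⟨i, hi⟩ ∈ decS w) ↔ g.1 (pt ⟨i, hi⟩) ∈ decS w := by
          conv_rhs => rw [← hs w hw]
          rw [Finset.mem_smul_finset]
          exact ⟨fun h => ⟨_, h, rfl⟩, fun ⟨b, hb, hbe⟩ => g.1.injective hbe ▸ hb⟩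
        rw [getD_toList_lt g.1 hi, mem_decS, mem_decS, idx_pt] at *
        exact Bool.eq_iff_iff.mpr h1
      · exact List.all_eq_true.mpr fun w hw => by
          rw [(pmap_eq_iff_smul (hW w hw)).mpr (hs w hw)]; exact Nat.beq_refl _
    · rintro ⟨hm, hp⟩
      obtain ⟨σ, -, hσ, hc⟩ := of_mem_cosearch hG hm
      obtain rfl := toList_injective hσ
      exact ⟨hc, fun w hw => (pmap_eq_iff_smul (hW w hw)).mp
        (Nat.eq_of_beq_eq_true (List.all_eq_true.mp hp w hw))⟩
  have hsq : ∀ g ∈ Q, g * g = 1 := fun g hg => Subtype.ext (toList_injective (by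
    show toList (g.1 * g.1) = toList (1 : Equiv.Perm GolayPt)
    rw [toList_mul, toList_one]
    exact beq_iff_eq.mp (List.all_eq_true.mp hinv _ ((hQlist g).mp hg))))
  have hab : ∀ a ∈ Q, ∀ b ∈ Q, a * b = b * a := fun a ha b hb => by
    have h1 := hsq _ (mul_mem ha hb)
    calc a * b = a * a * (b * a) * (a * b * (a * b)) * 1 := by
          rw [hsq a ha, h1]
          have := hsq b hb
          have h3 : b * a = (a * b)⁻¹ := by
            rw [mul_inv_rev, inv_eq_of_mul_eq_one_right (hsq a ha), inv_eq_of_mul_eq_one_right this]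
          rw [h3, inv_eq_of_mul_eq_one_right h1, one_mul, mul_one, mul_one]
      _ = b * a := by rw [h1, hsq a ha, one_mul, mul_one, mul_one]
  refine ⟨Q, inf_le_left, ?_, ?_, ?_⟩
  · rintro ⟨g, hg⟩
    refine ⟨1, Subtype.ext ?_⟩
    rw [pow_one, pow_two]
    exact hsq g hg
  · have key : ∀ c ∈ Subgroup.centralizer ({z} : Set G), ∀ g ∈ Q, c * g * c⁻¹ ∈ Q := by
      intro c hc g hg
      obtain ⟨hgz, hgw⟩ := (hQmem g).mp hg
      refine (hQmem _).mpr ⟨?_, fun w hw => ?_⟩
      · have h1 := Subgroup.mem_centralizer_singleton_iff.mp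
          (mul_mem (mul_mem hc (Subgroup.mem_centralizer_singleton_iff.mpr (Subtype.ext hgz)))
            (inv_mem hc))
        exact congrArg Subtype.val h1
      · have hci := Subgroup.mem_centralizer_singleton_iff.mp (inv_mem hc)
        have hw' := hperm (c⁻¹ : G).1 (c⁻¹).2 (congrArg Subtype.val hci) w hw
        have h2 := hgw _ hw'
        rw [show decS (pmap (toList (c⁻¹ : G).1) w) = (c⁻¹ : G).1 • decS w by
          refine encS_injective ?_
          rw [encS_smul, encS_decS (hW w hw), encS_decS (hW _ hw')]] at h2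
        show (c.1 * g.1 * c.1⁻¹) • decS w = decS w
        rw [mul_smul, mul_smul, show (c.1⁻¹ : Equiv.Perm GolayPt) = (c⁻¹ : G).1 from rfl, h2,
          ← mul_smul]
        show (c.1 * c.1⁻¹) • decS w = decS w
        rw [mul_inv_cancel, one_smul]
    intro c hc
    refine Subgroup.mem_normalizer_iff.mpr fun g => ⟨key c hc g, fun hg => ?_⟩
    have := key c⁻¹ (inv_mem hc) _ hg
    simpa [mul_assoc] using this
  · rintro c ⟨hcQ, hcz⟩
    have hQc : ∀ q ∈ Q, c * q = q * c := fun q hq => (Subgroup.mem_centralizer_iff.mp hcQ q hq).symm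
    have hsame : ∀ d : G, (∀ q ∈ Q, d * q = q * d) → ∀ i < 24,
        sameStab L i ((toList d.1).getD i 0) = true := by
      intro d hd i hi
      refine List.all_eq_true.mpr fun l hl => beq_iff_eq.mpr ?_
      rw [hL, kernelList, List.mem_filter] at hl
      obtain ⟨σ, hσ, rfl, hσc⟩ := of_mem_cosearch hG hl.1
      have hq : (⟨σ, hσ⟩ : G) ∈ Q := (hQlist ⟨σ, hσ⟩).mpr (by
        rw [hL, kernelList, List.mem_filter]; exact hl)
      have hcm : d.1 * σ = σ * d.1 := congrArg Subtype.val (hd _ hq)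
      rw [Bool.eq_iff_iff, Nat.beq_eq, Nat.beq_eq, getD_comm hcm hi]
      exact ⟨fun h => by rw [h], fun h => toList_inj d.1 (toList_lt σ hi) hi h⟩
    obtain ⟨l, hl, hla⟩ : ∃ l ∈ L, l.getD a0 0 = (toList c.1).getD a0 0 := by
      have h1 := List.all_eq_true.mp hcover _ (List.mem_range.mpr (toList_lt c.1 ha0))
      rw [hsame c hQc a0 ha0] at h1
      simpa using h1
    obtain ⟨σ, hσ, rfl, hσc⟩ : ∃ σ ∈ G, toList σ = l ∧ σ * z.1 = z.1 * σ :=
      of_mem_cosearch hG (List.mem_of_mem_filter hl)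
    have hq : (⟨σ, hσ⟩ : G) ∈ Q := (hQlist ⟨σ, hσ⟩).mpr hl
    set d : G := (⟨σ, hσ⟩ : G)⁻¹ * c with hd
    have hdQ : ∀ q ∈ Q, d * q = q * d := fun q hq' => by
      rw [hd, mul_assoc, hQc q hq', ← mul_assoc, hab _ (inv_mem hq) q hq', mul_assoc]
    have hdz : d.1 * z.1 = z.1 * d.1 := congrArg Subtype.val
      (Subgroup.mem_centralizer_singleton_iff.mp
        (mul_mem (inv_mem ((inf_le_left : Q ≤ _) hq)) hcz))
    have hda : (toList d.1).getD a0 0 = a0 := by
      show (toList (σ⁻¹ * c.1)).getD a0 0 = a0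
      rw [getD_toList_mul _ _ ha0, ← hla, ← getD_toList_mul _ _ ha0, inv_mul_cancel, getD_one ha0]
    have hmem : toList d.1 ∈ cosearch inG (toList z.1) ssB := by
      refine mem_cosearch hG d.2 hdz hstB hcandB fun i hi => ?_
      rw [okB, hsame d hdQ i hi, Bool.true_and, Bool.or_eq_true]
      by_cases hio : i ∈ L.map fun l => l.getD a0 0
      · right
        obtain ⟨l', hl', rfl⟩ := List.mem_map.mp hio
        obtain ⟨τ, hτ, rfl, hτc⟩ : ∃ τ ∈ G, toList τ = l' ∧ τ * z.1 = z.1 * τ :=
          of_mem_cosearch hG (List.mem_of_mem_filter hl')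
        have hτd : τ * d.1 = d.1 * τ :=
          congrArg Subtype.val (hdQ _ ((hQlist ⟨τ, hτ⟩).mpr hl')).symm
        rw [getD_comm hτd ha0, hda]
        exact Nat.beq_refl _
      · left
        simpa using hio
    have h1 := List.all_eq_true.mp hfinal _ hmem
    have h2 : (L.all fun q => comp (toList d.1) q == comp q (toList d.1)) = true := by
      refine List.all_eq_true.mpr fun l' hl' => beq_iff_eq.mpr ?_
      obtain ⟨τ, hτ, rfl, hτc⟩ : ∃ τ ∈ G, toList τ = l' ∧ τ * z.1 = z.1 * τ :=
        of_mem_cosearch hG (List.mem_of_mem_filter hl')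
      rw [← toList_mul, ← toList_mul]
      exact congrArg toList (congrArg Subtype.val (hdQ _ ((hQlist ⟨τ, hτ⟩).mpr hl')))
    rw [h2] at h1
    have hdQ' : d ∈ Q := (hQlist d).mpr (by simpa using h1)
    have := mul_mem hq hdQ'
    rwa [hd, mul_inv_cancel_left] at this

/-- The masks of the fixed positions. -/
def fixedW (z : List ℕ) : List ℕ :=
  ((List.range 24).filter fun i => Nat.beq (z.getD i 0) i).map (2 ^ ·)

theorem encS_singleton_pt (i : Fin 24) : encS {pt i} = 2 ^ i.val := by
  refine mask_ext (fun p => ?_) fun j hj => ?_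
  · simp only [testBit_encS, Nat.testBit_two_pow, Finset.mem_singleton, decide_eq_decide]
    refine ⟨fun h => by rw [h, idx_pt], fun h => ?_⟩
    rw [← pt_idx p, show i = idx p from Fin.ext h]
  · rw [testBit_encS_ge _ hj, Nat.testBit_two_pow]
    exact (decide_eq_false (by omega)).symm

theorem fixedW_perm {σ z : Equiv.Perm GolayPt} (h : σ * z = z * σ) :
    ∀ w ∈ fixedW (toList z), pmap (toList σ) w ∈ fixedW (toList z) := by
  intro w hw
  simp only [fixedW, List.mem_map, List.mem_filter, List.mem_range, Nat.beq_eq] at hw ⊢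
  obtain ⟨i, ⟨hi, hfix⟩, rfl⟩ := hw
  refine ⟨(toList σ).getD i 0, ⟨toList_lt σ hi, by rw [getD_comm h hi, hfix]⟩, ?_⟩
  rw [show 2 ^ i = encS {pt ⟨i, hi⟩} from (encS_singleton_pt ⟨i, hi⟩).symm, ← encS_smul,
    Finset.smul_finset_singleton, Equiv.Perm.smul_def, getD_toList_lt σ hi,
    ← encS_singleton_pt, pt_idx]

/-- The invariant code words of weight eight. -/
def octadW (z : List ℕ) : List ℕ :=
  ((List.range 4096).map codeWord).filter fun w => Nat.beq (popc w) 8 && Nat.beq (pmap z w) w

theorem octadW_perm {σ z : Equiv.Perm GolayPt} (hσ : σ ∈ M24) (h : σ * z = z * σ)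
    (hlt : ∀ w ∈ octadW (toList z), w < 2 ^ 24) :
    ∀ w ∈ octadW (toList z), pmap (toList σ) w ∈ octadW (toList z) := by
  intro w hw
  have hw24 := hlt w hw
  simp only [octadW, List.mem_filter, List.mem_map, List.mem_range, Bool.and_eq_true,
    Nat.beq_eq] at hw ⊢
  obtain ⟨⟨k, -, rfl⟩, h8, hz⟩ := hw
  have h1 := smul_mem_supports hσ (b := decS (codeWord k))
    (mem_supports.mpr (by rw [encS_decS hw24]; exact isCode_codeWord k))
  rw [mem_supports, encS_smul, encS_decS hw24] at h1
  refine ⟨⟨pmap (toList σ) (codeWord k) &&& 4095, ?_, isCode_iff.mp h1⟩, ?_, ?_⟩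
  · exact Nat.lt_succ_of_le Nat.and_le_right
  · rw [← encS_decS hw24, ← encS_smul, popc_encS, Finset.card_smul_finset, ← popc_encS,
      encS_decS hw24, h8]
  · rw [← encS_decS hw24, ← encS_smul, ← encS_smul, ← mul_smul, ← h, mul_smul,
      (pmap_eq_iff_smul hw24).mp hz]

end CfsgLib.MathieuBlocks
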