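import Cfsg.Agent.Lib.MathieuBlocks.Assembly
import Cfsg.Agent.Lib.MathieuBlocks.Data
import Cfsg.Agent.Lib.FusionMathieu.Data

/-!
# The single 2-block of the stabilizer of two points
-/

set_option autoImplicit false
set_option linter.style.haveILetI false
set_option maxRecDepth 100000

namespace CfsgLib.MathieuBlocks.Twenty22

open Cfsg CfsgLib.Golay CfsgLib.FusionMathieu CfsgLib.MathieuBlocks.Data

theorem tested : Tested Cfsg.Spor.M22 inG22 := ⟨M22_le, mem_M22_iff⟩

theorem fac_two : (Nat.card Cfsg.Spor.M22).factorization 2 = 7 := by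
  rw [card_M22]; exact factorization_eq_of Nat.prime_two (m := 3465) (by norm_num) (by norm_num)

theorem fac_three : (Nat.card Cfsg.Spor.M22).factorization 3 = 2 := by
  rw [card_M22]; exact factorization_eq_of Nat.prime_three (m := 49280) (by norm_num) (by norm_num)

theorem inv_check : (valid m22AZ && inG22 m22AZ) = true := by decide +kernel

theorem inv_local : localOK inG22 m22AZ (fixedW m22AZ) m22AStA m22AStB m22APt = true := by
  decide +kernel

theorem inv_cover : (m22Gens.all inG22 && chainOk m22Gens && Nat.beq m22Gens.length 7 &&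
    coverOK inG22 selTwo (elts m22Gens) [m22AZ] m22InvCerts) = true := by
  decide +kernel

/-- Admissible images for the centralizer of the element of order three. -/
def okX (h y : ℕ) : Bool :=
  okT m22X h y && ((Nat.beq h 0 || Nat.beq h 23) == (Nat.beq y 0 || Nat.beq y 23)) &&
    (!(Nat.beq h 0 || Nat.beq h 23) || Nat.beq y h)

theorem x_check : (valid m22X && inG22 m22X) = true := by decide +kernel

theorem three_check : (sqInvOK inG22 m22X m22XInv &&
    groupListOK inG22 m22Syl3 && Nat.beq m22Syl3.length 9 &&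
    coverOK inG22 selNe m22Syl3 [m22X] m22ThreeCerts) = true := by
  decide +kernel

theorem three_cent : (Schur.GolaySearch.stagesOK m22X 0 m22XSt && candOK okX m22XSt &&
    decide (cosearch inG22 m22X m22XSt).Nodup &&
    Nat.beq (cosearch inG22 m22X m22XSt).length 36) = true := by
  decide +kernel

theorem local_two (u : Cfsg.Spor.M22) (hu : orderOf u = 2) : LocallyConstrained 2 u := by
  have h := inv_cover
  simp only [Bool.and_eq_true, Nat.beq_eq] at h
  obtain ⟨⟨⟨hgens, hchain⟩, hlen⟩, hcov⟩ := h
  obtain ⟨z, hz⟩ := exists_elem tested inv_check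
  obtain ⟨k, hk, hrep⟩ := exists_involution_rep tested fac_two hlen hgens hchain hcov hu
  have hk0 : k = 0 := by simpa using hk
  subst hk0
  obtain ⟨c, rfl⟩ := isConj_iff.mp (hrep z hz)
  refine (locallyConstrained_of_check tested z hz _ _ _ _ (fun σ _ hc => ?_) inv_local).conj c
  rw [← hz]
  exact fixedW_perm hc

theorem no_defect_zero (χ : IrrCharacter Cfsg.Spor.M22) :
    ¬ 2 ^ (Nat.card Cfsg.Spor.M22).factorization 2 ∣ charDegree (χ : Cfsg.Spor.M22 → ℂ) := by
  classical
  haveI := Fintype.ofFinite Cfsg.Spor.M22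
  have h := three_check
  simp only [Bool.and_eq_true, Nat.beq_eq] at h
  obtain ⟨⟨⟨hreal, hlist⟩, hlen⟩, hcov⟩ := h
  obtain ⟨x, hx⟩ := exists_elem tested x_check
  rw [← hx] at hreal
  obtain ⟨hx3, hxr⟩ := real_three tested hreal
  have hc := three_cent
  simp only [Bool.and_eq_true, Nat.beq_eq, decide_eq_true_eq] at hc
  obtain ⟨⟨⟨hst, hcand⟩, hnd⟩, hcard⟩ := hc
  rw [← hx] at hst hnd hcard
  have hC : Nat.card (Subgroup.centralizer ({x} : Set Cfsg.Spor.M22)) = 36 := by
    rw [natCard_centralizer_of_list tested x _ hst hcand ?_ hnd, hcard]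
    intro σ hσ hσc i hi
    have hin := (mem_M22_iff σ).mp hσ
    simp only [inG22, inG23, Bool.and_eq_true, Nat.beq_eq] at hin
    have hh : ∀ j < 24, (toList σ).getD j 0 = j →
        Nat.beq ((toList σ).getD i 0) j = Nat.beq i j := fun j hj hfix => by
      rw [Bool.eq_iff_iff, Nat.beq_eq, Nat.beq_eq]
      exact ⟨fun e => toList_inj σ hi hj (e.trans hfix.symm), fun e => e ▸ hfix⟩
    rw [okX, ← hx, okT_of_comm hσc hi, hh 0 (by norm_num) hin.2, hh 23 (by norm_num) hin.1.2,
      Bool.true_and, beq_self_eq_true, Bool.true_and, Bool.or_eq_true]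
    by_cases hi' : i = 0 ∨ i = 23
    · right
      rcases hi' with rfl | rfl
      · rw [hin.2]; rfl
      · rw [hin.1.2]; rfl
    · left
      push Not at hi'
      have e0 : Nat.beq i 0 = false := Bool.eq_false_iff.mpr fun e => hi'.1 (Nat.eq_of_beq_eq_true e)
      have e23 : Nat.beq i 23 = false := Bool.eq_false_iff.mpr fun e => hi'.2 (Nat.eq_of_beq_eq_true e)
      rw [e0, e23]; rfl
  have hindex : (Subgroup.centralizer ({x} : Set Cfsg.Spor.M22)).index = 12320 := by
    have h1 := (Subgroup.centralizer ({x} : Set Cfsg.Spor.M22)).card_mul_index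
    rw [hC, card_M22] at h1
    omega
  obtain ⟨a, hdvd, -, hmod, hle⟩ := three_constraints χ (fun _ : Fin 1 => x) (fun _ => hx3)
    (fun _ => hxr) (fun i j _ => Subsingleton.elim i j)
    (fun g hg => (exists_three_rep tested fac_three hlist hlen hcov hg).imp id
      fun ⟨k, hk, hrep⟩ => ⟨0, hrep x (by
        have hk0 : k = 0 := by simpa using hk
        subst hk0; exact hx)⟩)
    (fun _ => 12320) (fun _ => hindex)
  rw [fac_two]
  rintro ⟨k, hk⟩
  rw [fac_three, card_M22] at *
  have hdG := (ClassCount.degree_eq χ).2.1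
  rw [hk, card_M22] at hdG
  rw [hk] at hle
  simp only [Fin.sum_univ_one] at hmod hle
  rw [hk] at hmod
  have h0 := hdvd 0
  rw [hk] at h0
  push_cast at h0 hmod hle
  have hk5 : k ≤ 5 := by
    by_contra hcon
    push Not at hcon
    have : (6 : ℤ) ≤ k := by exact_mod_cast hcon
    nlinarith [sq_nonneg (a 0)]
  have ha : -6 ≤ a 0 ∧ a 0 ≤ 6 := by constructor <;> nlinarith
  obtain ⟨ha1, ha2⟩ := ha
  have hkd : k ∣ 3465 := Nat.dvd_of_mul_dvd_mul_left (show 0 < 128 by norm_num) (by simpa using hdG)
  generalize a 0 = t at *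
  interval_cases k <;> interval_cases t <;> omega

theorem mem_principalBlock (M : Ideal AlgInt) (hM : IsPModular 2 M)
    (χ : IrrCharacter Cfsg.Spor.M22) : χ ∈ principalBlock M Cfsg.Spor.M22 :=
  mem_principalBlock_of_constrained hM no_defect_zero local_two χ

end CfsgLib.MathieuBlocks.Twenty22
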