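import Cfsg.Agent.Lib.MathieuBlocks.M24CentDef

/-!
# The first centralizer order
-/

set_option autoImplicit false
set_option linter.style.haveILetI false
set_option maxRecDepth 100000

namespace CfsgLib.MathieuBlocks.Twenty24

open Cfsg CfsgLib.Golay CfsgLib.FusionMathieu CfsgLib.MathieuBlocks.Data

theorem x_cent : centOK m24X m24XPt m24XOrb m24XSt 1080 = true := by decide +kernel

end CfsgLib.MathieuBlocks.Twenty24
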