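import Cfsg.Agent.Lib.MathieuBlocks.M24CentYFound

/-!
# The second centralizer order
-/

set_option autoImplicit false
set_option linter.style.haveILetI false
set_option maxRecDepth 100000

namespace CfsgLib.MathieuBlocks.Twenty24

open Cfsg CfsgLib.Golay CfsgLib.FusionMathieu CfsgLib.MathieuBlocks.Data

theorem y_cent : centOK m24Y m24YPt m24YOrb m24YSt 504 = true := by
  rw [centOK, cosearchY_eq]
  decide +kernel

end CfsgLib.MathieuBlocks.Twenty24
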