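import Cfsg.Agent.Lib.MathieuBlocks.M24Inv
import Cfsg.Agent.Lib.MathieuBlocks.M24CentX
import Cfsg.Agent.Lib.MathieuBlocks.M24CentY

/-!
# The single 2-block of the group of the length-24 code
-/

set_option autoImplicit false
set_option linter.style.haveILetI false
set_option maxRecDepth 100000

namespace CfsgLib.MathieuBlocks.Twenty24

open Cfsg CfsgLib.Golay CfsgLib.FusionMathieu CfsgLib.MathieuBlocks.Data

theorem tested : Tested Cfsg.M24 inG24 := ⟨le_rfl, mem_M24_iff'⟩

theorem fac_two : (Nat.card Cfsg.M24).factorization 2 = 10 := by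
  rw [natCard_M24]; exact factorization_eq_of Nat.prime_two (m := 239085) (by norm_num) (by norm_num)

theorem fac_three : (Nat.card Cfsg.M24).factorization 3 = 3 := by
  rw [natCard_M24]
  exact factorization_eq_of Nat.prime_three (m := 9067520) (by norm_num) (by norm_num)

theorem x_check : (valid m24X && inG24 m24X) = true := by decide +kernel

theorem y_check : (valid m24Y && inG24 m24Y) = true := by decide +kernel

theorem three_check : (sqInvOK inG24 m24X m24XInv && sqInvOK inG24 m24Y m24YInv &&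
    hasFix m24X && !(hasFix m24Y) &&
    groupListOK inG24 m24Syl3 && Nat.beq m24Syl3.length 27 &&
    coverOK inG24 selNe m24Syl3 [m24X, m24Y] m24ThreeCerts) = true := by
  decide +kernel

theorem natCard_cent {x : Cfsg.M24} {a : ℕ} {T : List (List ℕ)}
    {ss : List Schur.GolaySearch.Stage} {n : ℕ} (h : centOK (toList x.1) a T ss n = true) :
    Nat.card (Subgroup.centralizer ({x} : Set Cfsg.M24)) = n := by
  simp only [centOK, Bool.and_eq_true, Nat.beq_eq, decide_eq_true_eq] at h
  obtain ⟨⟨⟨hT, hst⟩, hcand⟩, ⟨hnd, hfix⟩, hn⟩ := h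
  rw [natCard_centralizer_of_orbit tested x a T hT ss hst hcand hnd hfix, hn]

theorem local_two (u : Cfsg.M24) (hu : orderOf u = 2) : LocallyConstrained 2 u := by
  have h := inv_cover
  simp only [Bool.and_eq_true, Nat.beq_eq] at h
  obtain ⟨⟨⟨hgens, hchain⟩, hlen⟩, hcov⟩ := h
  obtain ⟨k, hk, hrep⟩ := exists_involution_rep tested fac_two hlen hgens hchain hcov hu
  rcases k with _ | _ | k
  · obtain ⟨z, hz⟩ := exists_elem tested invA_check
    obtain ⟨c, rfl⟩ := isConj_iff.mp (hrep z hz)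
    refine (locallyConstrained_of_check tested z hz _ _ _ _ (fun σ _ hc => ?_) invA_local).conj c
    rw [← hz]
    exact fixedW_perm hc
  · obtain ⟨z, hz⟩ := exists_elem tested invB_check
    obtain ⟨c, rfl⟩ := isConj_iff.mp (hrep z hz)
    refine (locallyConstrained_of_check tested z hz _ _ _ _ (fun σ hσ hc => ?_) invB_local).conj c
    have hlt := invB_lt
    simp only [List.all_eq_true, decide_eq_true_eq] at hlt
    rw [← hz] at hlt ⊢
    exact octadW_perm hσ hc hlt
  · simp at hk

set_option maxHeartbeats 1000000 in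
theorem arith {k : ℕ} {a b : ℤ} (hk : k ∣ 239085)
    (h1 : (1024 * (k : ℤ)) ∣ 226688 * a) (h2 : (1024 * (k : ℤ)) ∣ 485760 * b)
    (hmod : (27 : ℤ) ∣ 1024 * (k : ℤ) + (226688 * a + 485760 * b))
    (ha3 : (1024 * (k : ℤ))^2 + (226688 * a^2 + 485760 * b^2) ≤ 244823040)
    (hb3 : (3 : ℤ) ∣ 1024 * (k : ℤ) + 2 * b) : False := by
  obtain ⟨A, rfl⟩ : (8 : ℤ) ∣ a := by
    have h : (128 : ℤ) * 8 ∣ 128 * (1771 * a) := by
      rw [← mul_assoc]; exact (dvd_mul_right _ _).trans h1
    exact (Int.isCoprime_iff_gcd_eq_one.mpr (by norm_num)).dvd_of_dvd_mul_left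
      (Int.dvd_of_mul_dvd_mul_left (by norm_num) h)
  obtain ⟨B, rfl⟩ : (8 : ℤ) ∣ b := by
    have h : (128 : ℤ) * 8 ∣ 128 * (3795 * b) := by
      rw [← mul_assoc]; exact (dvd_mul_right _ _).trans h2
    exact (Int.isCoprime_iff_gcd_eq_one.mpr (by norm_num)).dvd_of_dvd_mul_left
      (Int.dvd_of_mul_dvd_mul_left (by norm_num) h)
  have hk15 : k ≤ 15 := by
    by_contra hcon
    push Not at hcon
    have : (16 : ℤ) ≤ k := by exact_mod_cast hcon
    nlinarith [sq_nonneg A, sq_nonneg B]
  have hk1 : (1 : ℤ) ≤ k := by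
    have : k ≠ 0 := fun h => by rw [h] at hk; norm_num at hk
    omega
  have hk2 : ¬ (2 : ℤ) ∣ k := fun h => absurd ((Int.natCast_dvd_natCast.mp h).trans hk) (by norm_num)
  have hk13 : (k : ℤ) ≠ 13 := fun h => by
    have : k = 13 := by exact_mod_cast h
    rw [this] at hk; norm_num at hk
  have hq : 14508032 * (A * A) + 31088640 * (B * B) ≤ 243774464 := by
    nlinarith [mul_le_mul hk1 hk1 (by norm_num) (by linarith)]
  have hkle : (k : ℤ) ≤ 15 := by exact_mod_cast hk15
  have h27 : (27 : ℤ) ∣ 25 * (k : ℤ) + 22 * A + 24 * B := by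
    have e : (1024 * (k : ℤ) + (226688 * (8 * A) + 485760 * (8 * B))) -
        27 * (37 * k + 67166 * A + 143928 * B) = 25 * k + 22 * A + 24 * B := by ring
    rw [← e]; exact dvd_sub hmod (dvd_mul_right _ _)
  have h3 : (3 : ℤ) ∣ (k : ℤ) + B := by omega
  clear h1 h2 hmod ha3 hb3 hk hk15
  have hA : -4 ≤ A ∧ A ≤ 4 := by constructor <;> nlinarith
  have hB : -2 ≤ B ∧ B ≤ 2 := by constructor <;> nlinarith
  obtain ⟨hA1, hA2⟩ := hA
  obtain ⟨hB1, hB2⟩ := hB
  interval_cases A <;> interval_cases B <;> omega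

theorem no_defect_zero (χ : IrrCharacter Cfsg.M24) :
    ¬ 2 ^ (Nat.card Cfsg.M24).factorization 2 ∣ charDegree (χ : Cfsg.M24 → ℂ) := by
  classical
  haveI := Fintype.ofFinite Cfsg.M24
  have h := three_check
  simp only [Bool.and_eq_true, Nat.beq_eq, Bool.not_eq_true'] at h
  obtain ⟨⟨⟨⟨⟨⟨hrx, hry⟩, hfx⟩, hfy⟩, hlist⟩, hlen⟩, hcov⟩ := h
  obtain ⟨x, hx⟩ := exists_elem tested x_check
  obtain ⟨y, hy⟩ := exists_elem tested y_check
  rw [← hx] at hrx hfx
  rw [← hy] at hry hfy
  obtain ⟨hx3, hxr⟩ := real_three tested hrx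
  obtain ⟨hy3, hyr⟩ := real_three tested hry
  have hCx : Nat.card (Subgroup.centralizer ({x} : Set Cfsg.M24)) = 1080 :=
    natCard_cent (by rw [hx]; exact x_cent)
  have hCy : Nat.card (Subgroup.centralizer ({y} : Set Cfsg.M24)) = 504 :=
    natCard_cent (by rw [hy]; exact y_cent)
  have hIx : (Subgroup.centralizer ({x} : Set Cfsg.M24)).index = 226688 := by
    have h1 := (Subgroup.centralizer ({x} : Set Cfsg.M24)).card_mul_index
    rw [hCx, natCard_M24] at h1
    omega
  have hIy : (Subgroup.centralizer ({y} : Set Cfsg.M24)).index = 485760 := by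
    have h1 := (Subgroup.centralizer ({y} : Set Cfsg.M24)).card_mul_index
    rw [hCy, natCard_M24] at h1
    omega
  have hne := not_isConj_of_hasFix hfx hfy
  obtain ⟨a, hdvd, hthree, hmod, hle⟩ := three_constraints χ ![x, y]
    (Fin.forall_fin_two.mpr ⟨hx3, hy3⟩) (Fin.forall_fin_two.mpr ⟨hxr, hyr⟩)
    (Fin.forall_fin_two.mpr ⟨Fin.forall_fin_two.mpr ⟨fun _ => rfl, fun h => absurd h hne⟩,
      Fin.forall_fin_two.mpr ⟨fun h => absurd h.symm hne, fun _ => rfl⟩⟩)
    (fun g hg => (exists_three_rep tested fac_three hlist hlen hcov hg).imp id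
      fun ⟨k, hk, hrep⟩ => by
        rcases k with _ | _ | k
        · exact ⟨0, hrep x hx⟩
        · exact ⟨1, hrep y hy⟩
        · simp at hk)
    ![226688, 485760] (Fin.forall_fin_two.mpr ⟨hIx, hIy⟩)
  rw [fac_two]
  rintro ⟨k, hk⟩
  rw [fac_three, natCard_M24] at *
  have hdG := (ClassCount.degree_eq χ).2.1
  rw [hk, natCard_M24] at hdG
  have hkd : k ∣ 239085 := Nat.dvd_of_mul_dvd_mul_left (show 0 < 1024 by norm_num) (by simpa using hdG)
  simp only [Fin.sum_univ_two, Matrix.cons_val_zero, Matrix.cons_val_one] at hmod hle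
  have h0 := hdvd 0
  have h1 := hdvd 1
  simp only [Matrix.cons_val_zero, Matrix.cons_val_one] at h0 h1
  rw [hk] at h0 h1 hmod hle
  push_cast at h0 h1 hmod hle
  have h3 := hthree 1
  rw [hk] at h3
  push_cast at h3
  exact arith hkd (by simpa using h0) (by simpa using h1) (by simpa using hmod) (by simpa using hle)
    (by simpa using h3)

theorem mem_principalBlock (M : Ideal AlgInt) (hM : IsPModular 2 M)
    (χ : IrrCharacter Cfsg.M24) : χ ∈ principalBlock M Cfsg.M24 :=
  mem_principalBlock_of_constrained hM no_defect_zero local_two χ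

end CfsgLib.MathieuBlocks.Twenty24
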