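import Cfsg.Agent.Lib.MathieuBlocks.Assembly
import Cfsg.Agent.Lib.MathieuBlocks.Data

/-!
# Centralizer order certificates
-/

set_option autoImplicit false
set_option linter.style.haveILetI false
set_option maxRecDepth 100000

namespace CfsgLib.MathieuBlocks.Twenty24

open Cfsg CfsgLib.Golay CfsgLib.FusionMathieu CfsgLib.MathieuBlocks.Data

/-- Admissible images in a point stabilizer of a centralizer. -/
def okP (x : List ℕ) (a h y : ℕ) : Bool := okT x h y && (!(Nat.beq h a) || Nat.beq y a)

/-- The certificate for a centralizer order. -/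
def centOK (x : List ℕ) (a : ℕ) (T : List (List ℕ))
    (ss : List Schur.GolaySearch.Stage) (n : ℕ) : Bool :=
  orbitOK inG24 x a T && Schur.GolaySearch.stagesOK x 0 ss && candOK (okP x a) ss &&
    (let L := cosearch inG24 x ss
     decide L.Nodup && (L.all fun l => Nat.beq (l.getD a 0) a) && Nat.beq (T.length * L.length) n)

end CfsgLib.MathieuBlocks.Twenty24
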