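import Cfsg.Agent.Lib.MathieuBlocks.M24CentDef

/-!
# The search for the second centralizer, branch by branch
-/

set_option autoImplicit false
set_option maxRecDepth 100000
set_option Elab.async false

namespace CfsgLib.MathieuBlocks.Twenty24

open Cfsg CfsgLib.Golay CfsgLib.FusionMathieu CfsgLib.MathieuBlocks.Data
open Schur.GolaySearch (Stage searchImg cycMask)

/-- The mask of the points settled by a list of stages. -/
def maskAfterY : ℕ → List Stage → ℕ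
  | F, [] => F
  | F, s :: ss => maskAfterY (F ||| cycMask s.1) ss

theorem searchImg_appendY (lt : List ℕ) : ∀ (a b : List Stage) (F : ℕ) (st : List ℕ),
    searchImg lt F (a ++ b) st = (searchImg lt F a st).flatMap (searchImg lt (maskAfterY F a) b)
  | [], b, F, st => by simp [searchImg, maskAfterY]
  | s :: a, b, F, st => by
    simp only [List.cons_append, searchImg, maskAfterY, List.flatMap_assoc]
    congr 1
    funext x
    exact searchImg_appendY lt a b _ x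

/-- The part of the result below a state. -/
def branchY (st : List ℕ) : List (List ℕ) :=
  (searchImg m24Y (maskAfterY 0 (m24YSt.take 2)) (m24YSt.drop 2) st).filter fun l =>
    valid l && inG24 l && (comp l m24Y == comp m24Y l)

/-- The states after the first two stages. -/
def statesY : List (List ℕ) :=
  [[0,1,0,2,0,0,0,0,0,0,0,22,0,0,0,0,12,0,0,0,0,0,0,23],
    [0,1,0,3,0,0,0,0,0,0,0,11,0,0,0,0,16,0,0,0,0,0,0,23],
    [0,1,0,4,0,0,0,0,0,0,0,15,0,0,0,0,18,0,0,0,0,0,0,23],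
    [0,1,0,5,0,0,0,0,0,0,0,17,0,0,0,0,10,0,0,0,0,0,0,23],
    [0,1,0,6,0,0,0,0,0,0,0,9,0,0,0,0,20,0,0,0,0,0,0,23],
    [0,1,0,7,0,0,0,0,0,0,0,19,0,0,0,0,14,0,0,0,0,0,0,23],
    [0,1,0,8,0,0,0,0,0,0,0,13,0,0,0,0,21,0,0,0,0,0,0,23],
    [0,1,0,9,0,0,0,0,0,0,0,20,0,0,0,0,6,0,0,0,0,0,0,23],
    [0,1,0,10,0,0,0,0,0,0,0,5,0,0,0,0,17,0,0,0,0,0,0,23],
    [0,1,0,11,0,0,0,0,0,0,0,16,0,0,0,0,3,0,0,0,0,0,0,23],
    [0,1,0,12,0,0,0,0,0,0,0,2,0,0,0,0,22,0,0,0,0,0,0,23],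
    [0,1,0,13,0,0,0,0,0,0,0,21,0,0,0,0,8,0,0,0,0,0,0,23],
    [0,1,0,14,0,0,0,0,0,0,0,7,0,0,0,0,19,0,0,0,0,0,0,23],
    [0,1,0,15,0,0,0,0,0,0,0,18,0,0,0,0,4,0,0,0,0,0,0,23],
    [0,1,0,16,0,0,0,0,0,0,0,3,0,0,0,0,11,0,0,0,0,0,0,23],
    [0,1,0,17,0,0,0,0,0,0,0,10,0,0,0,0,5,0,0,0,0,0,0,23],
    [0,1,0,18,0,0,0,0,0,0,0,4,0,0,0,0,15,0,0,0,0,0,0,23],
    [0,1,0,19,0,0,0,0,0,0,0,14,0,0,0,0,7,0,0,0,0,0,0,23],
    [0,1,0,20,0,0,0,0,0,0,0,6,0,0,0,0,9,0,0,0,0,0,0,23],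
    [0,1,0,21,0,0,0,0,0,0,0,8,0,0,0,0,13,0,0,0,0,0,0,23],
    [0,1,0,22,0,0,0,0,0,0,0,12,0,0,0,0,2,0,0,0,0,0,0,23]]

theorem statesY_eq : searchImg m24Y 0 (m24YSt.take 2) (List.replicate 24 0) = statesY := by
  decide +kernel

theorem branchY_0 : branchY
    [0,1,0,2,0,0,0,0,0,0,0,22,0,0,0,0,12,0,0,0,0,0,0,23] =
     [[0,1,14,2,13,5,15,11,9,18,10,22,19,20,3,21,12,17,8,16,4,6,7,23],
      [0,1,6,2,4,7,3,8,5,11,14,22,20,17,21,15,12,19,18,13,16,10,9,23],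
      [0,1,10,2,16,9,21,18,7,8,6,22,17,19,15,3,12,20,11,4,13,14,5,23]] := by
  decide +kernel

theorem branchY_1 : branchY
    [0,1,0,3,0,0,0,0,0,0,0,11,0,0,0,0,16,0,0,0,0,0,0,23] =
     [[0,1,2,3,4,5,6,7,8,9,10,11,12,13,14,15,16,17,18,19,20,21,22,23],
      [0,1,10,3,19,8,15,9,22,18,21,11,17,12,6,14,16,13,7,20,4,2,5,23],
      [0,1,21,3,20,22,14,18,5,7,2,11,13,17,15,6,16,12,9,4,19,10,8,23]] := by
  decide +kernel

theorem branchY_2 : branchY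
    [0,1,0,4,0,0,0,0,0,0,0,15,0,0,0,0,18,0,0,0,0,0,0,23] =
     [] := by
  decide +kernel

theorem branchY_3 : branchY
    [0,1,0,5,0,0,0,0,0,0,0,17,0,0,0,0,10,0,0,0,0,0,0,23] =
     [] := by
  decide +kernel

theorem branchY_4 : branchY
    [0,1,0,6,0,0,0,0,0,0,0,9,0,0,0,0,20,0,0,0,0,0,0,23] =
     [[0,1,21,6,17,7,15,22,11,18,14,9,13,16,2,10,20,19,5,12,4,3,8,23],
      [0,1,3,6,4,8,2,5,7,22,21,9,16,19,10,15,20,13,18,17,12,14,11,23],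
      [0,1,14,6,12,11,10,18,8,5,3,9,19,13,15,2,20,16,22,4,17,21,7,23]] := by
  decide +kernel

theorem branchY_5 : branchY
    [0,1,0,7,0,0,0,0,0,0,0,19,0,0,0,0,14,0,0,0,0,0,0,23] =
     [] := by
  decide +kernel

theorem branchY_6 : branchY
    [0,1,0,8,0,0,0,0,0,0,0,13,0,0,0,0,21,0,0,0,0,0,0,23] =
     [] := by
  decide +kernel

theorem branchY_7 : branchY
    [0,1,0,9,0,0,0,0,0,0,0,20,0,0,0,0,6,0,0,0,0,0,0,23] =
     [] := by
  decide +kernel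

theorem branchY_8 : branchY
    [0,1,0,10,0,0,0,0,0,0,0,5,0,0,0,0,17,0,0,0,0,0,0,23] =
     [[0,1,6,10,12,8,14,11,18,7,21,5,20,4,3,2,17,13,22,16,19,15,9,23],
      [0,1,15,10,19,9,3,22,8,11,6,5,4,13,2,14,17,20,7,12,16,21,18,23],
      [0,1,21,10,16,18,2,7,9,22,15,5,13,20,14,3,17,4,11,19,12,6,8,23]] := by
  decide +kernel

theorem branchY_9 : branchY
    [0,1,0,11,0,0,0,0,0,0,0,16,0,0,0,0,3,0,0,0,0,0,0,23] =
     [] := by
  decide +kernel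

theorem branchY_10 : branchY
    [0,1,0,12,0,0,0,0,0,0,0,2,0,0,0,0,22,0,0,0,0,0,0,23] =
     [] := by
  decide +kernel

theorem branchY_11 : branchY
    [0,1,0,13,0,0,0,0,0,0,0,21,0,0,0,0,8,0,0,0,0,0,0,23] =
     [] := by
  decide +kernel

theorem branchY_12 : branchY
    [0,1,0,14,0,0,0,0,0,0,0,7,0,0,0,0,19,0,0,0,0,0,0,23] =
     [[0,1,3,14,20,5,21,22,18,8,10,7,16,4,2,6,19,17,9,12,13,15,11,23],
      [0,1,15,14,13,11,2,9,5,22,3,7,4,17,6,21,19,16,8,20,12,10,18,23],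
      [0,1,10,14,12,18,6,8,11,9,15,7,17,16,21,2,19,4,22,13,20,3,5,23]] := by
  decide +kernel

theorem branchY_13 : branchY
    [0,1,0,15,0,0,0,0,0,0,0,18,0,0,0,0,4,0,0,0,0,0,0,23] =
     [[0,1,2,15,13,9,14,5,11,7,6,18,12,16,10,21,4,20,8,17,19,3,22,23],
      [0,1,6,15,17,11,21,7,22,8,3,18,20,12,14,10,4,16,5,19,13,2,9,23],
      [0,1,3,15,19,22,10,8,9,5,2,18,16,20,21,14,4,12,7,13,17,6,11,23]] := by
  decide +kernel

theorem branchY_14 : branchY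
    [0,1,0,16,0,0,0,0,0,0,0,3,0,0,0,0,11,0,0,0,0,0,0,23] =
     [] := by
  decide +kernel

theorem branchY_15 : branchY
    [0,1,0,17,0,0,0,0,0,0,0,10,0,0,0,0,5,0,0,0,0,0,0,23] =
     [] := by
  decide +kernel

theorem branchY_16 : branchY
    [0,1,0,18,0,0,0,0,0,0,0,4,0,0,0,0,15,0,0,0,0,0,0,23] =
     [] := by
  decide +kernel

theorem branchY_17 : branchY
    [0,1,0,19,0,0,0,0,0,0,0,14,0,0,0,0,7,0,0,0,0,0,0,23] =
     [] := by
  decide +kernel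

theorem branchY_18 : branchY
    [0,1,0,20,0,0,0,0,0,0,0,6,0,0,0,0,9,0,0,0,0,0,0,23] =
     [] := by
  decide +kernel

theorem branchY_19 : branchY
    [0,1,0,21,0,0,0,0,0,0,0,8,0,0,0,0,13,0,0,0,0,0,0,23] =
     [[0,1,2,21,16,7,10,9,18,5,14,8,12,4,6,3,13,19,11,20,17,15,22,23],
      [0,1,14,21,20,18,3,5,22,11,15,8,19,12,10,6,13,4,9,17,16,2,7,23],
      [0,1,15,21,17,22,6,11,7,9,2,8,4,19,3,10,13,12,5,16,20,14,18,23]] := by
  decide +kernel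

theorem branchY_20 : branchY
    [0,1,0,22,0,0,0,0,0,0,0,12,0,0,0,0,2,0,0,0,0,0,0,23] =
     [] := by
  decide +kernel

/-- The centralizer of the element in the point stabilizer. -/
def foundY : List (List ℕ) :=
  [[0,1,14,2,13,5,15,11,9,18,10,22,19,20,3,21,12,17,8,16,4,6,7,23],
    [0,1,6,2,4,7,3,8,5,11,14,22,20,17,21,15,12,19,18,13,16,10,9,23],
    [0,1,10,2,16,9,21,18,7,8,6,22,17,19,15,3,12,20,11,4,13,14,5,23],
    [0,1,2,3,4,5,6,7,8,9,10,11,12,13,14,15,16,17,18,19,20,21,22,23],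
    [0,1,10,3,19,8,15,9,22,18,21,11,17,12,6,14,16,13,7,20,4,2,5,23],
    [0,1,21,3,20,22,14,18,5,7,2,11,13,17,15,6,16,12,9,4,19,10,8,23],
    [0,1,21,6,17,7,15,22,11,18,14,9,13,16,2,10,20,19,5,12,4,3,8,23],
    [0,1,3,6,4,8,2,5,7,22,21,9,16,19,10,15,20,13,18,17,12,14,11,23],
    [0,1,14,6,12,11,10,18,8,5,3,9,19,13,15,2,20,16,22,4,17,21,7,23],
    [0,1,6,10,12,8,14,11,18,7,21,5,20,4,3,2,17,13,22,16,19,15,9,23],
    [0,1,15,10,19,9,3,22,8,11,6,5,4,13,2,14,17,20,7,12,16,21,18,23],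
    [0,1,21,10,16,18,2,7,9,22,15,5,13,20,14,3,17,4,11,19,12,6,8,23],
    [0,1,3,14,20,5,21,22,18,8,10,7,16,4,2,6,19,17,9,12,13,15,11,23],
    [0,1,15,14,13,11,2,9,5,22,3,7,4,17,6,21,19,16,8,20,12,10,18,23],
    [0,1,10,14,12,18,6,8,11,9,15,7,17,16,21,2,19,4,22,13,20,3,5,23],
    [0,1,2,15,13,9,14,5,11,7,6,18,12,16,10,21,4,20,8,17,19,3,22,23],
    [0,1,6,15,17,11,21,7,22,8,3,18,20,12,14,10,4,16,5,19,13,2,9,23],
    [0,1,3,15,19,22,10,8,9,5,2,18,16,20,21,14,4,12,7,13,17,6,11,23],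
    [0,1,2,21,16,7,10,9,18,5,14,8,12,4,6,3,13,19,11,20,17,15,22,23],
    [0,1,14,21,20,18,3,5,22,11,15,8,19,12,10,6,13,4,9,17,16,2,7,23],
    [0,1,15,21,17,22,6,11,7,9,2,8,4,19,3,10,13,12,5,16,20,14,18,23]]

theorem cosearchY_eq : cosearch inG24 m24Y m24YSt = foundY := by
  have h : cosearch inG24 m24Y m24YSt = statesY.flatMap branchY := by
    rw [cosearch, ← List.take_append_drop 2 m24YSt, searchImg_appendY, statesY_eq, List.filter_flatMap]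
    rfl
  rw [h]
  simp only [statesY, List.flatMap_cons, List.flatMap_nil, branchY_0, branchY_1, branchY_2, branchY_3, branchY_4, branchY_5, branchY_6, branchY_7, branchY_8, branchY_9, branchY_10, branchY_11, branchY_12, branchY_13, branchY_14, branchY_15, branchY_16, branchY_17, branchY_18, branchY_19, branchY_20]
  rfl

end CfsgLib.MathieuBlocks.Twenty24
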