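import Cfsg.Agent.Lib.MathieuBlocks.Assembly
import Cfsg.Agent.Lib.MathieuBlocks.Data
import Cfsg.Agent.Lib.FusionMathieu.Data

/-!
# Involution certificates
-/

set_option autoImplicit false
set_option linter.style.haveILetI false
set_option maxRecDepth 100000

namespace CfsgLib.MathieuBlocks.Twenty24

open Cfsg CfsgLib.Golay CfsgLib.FusionMathieu CfsgLib.MathieuBlocks.Data

theorem invA_check : (valid m24AZ && inG24 m24AZ) = true := by decide +kernel

theorem invB_check : (valid m24BZ && inG24 m24BZ) = true := by decide +kernel

theorem invA_local : localOK inG24 m24AZ (fixedW m24AZ) m24AStA m24AStB m24APt = true := by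
  decide +kernel

theorem invB_local : localOK inG24 m24BZ (octadW m24BZ) m24BStA m24BStB m24BPt = true := by
  decide +kernel

theorem invB_lt : ((octadW m24BZ).all fun w => decide (w < 2 ^ 24)) = true := by decide +kernel

theorem inv_cover : (m24Gens.all inG24 && chainOk m24Gens && Nat.beq m24Gens.length 10 &&
    coverOK inG24 selTwo (elts m24Gens) [m24AZ, m24BZ] m24InvCerts) = true := by
  decide +kernel

end CfsgLib.MathieuBlocks.Twenty24
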