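import Cfsg.Agent.Lib.Schur.GolaySearch
import Cfsg.Agent.Lib.FusionMathieu.Chain
import Cfsg.Agent.Lib.MathieuBlocks.Criterion

/-!
# Checked searches for centralizers in groups of code automorphisms
-/

set_option autoImplicit false
set_option linter.style.haveILetI false
set_option linter.unusedSectionVars false

namespace CfsgLib.MathieuBlocks

open Cfsg CfsgLib.Golay CfsgLib.FusionMathieu CfsgLib.Schur.GolaySearch
open scoped Pointwise

/-- A group of code automorphisms given by a test on image lists. -/
structure Tested (G : Subgroup (Equiv.Perm GolayPt)) (inG : List ℕ → Bool) : Prop where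
  le : G ≤ M24
  mem : ∀ σ, σ ∈ G ↔ inG (toList σ) = true

theorem getD_comp (a : List ℕ) {b : List ℕ} {i : ℕ} (h : i < b.length) :
    (comp a b).getD i 0 = a.getD (b.getD i 0) 0 := by
  rw [comp, List.getD_eq_getElem _ _ (by rw [List.length_map]; exact h), List.getElem_map,
    ← List.getD_eq_getElem b 0 h]

theorem getD_toList_lt (σ : Equiv.Perm GolayPt) {i : ℕ} (h : i < 24) :
    (toList σ).getD i 0 = (idx (σ (pt ⟨i, h⟩))).val := by
  rw [← toList_getD σ (pt ⟨i, h⟩), idx_pt]

theorem toList_lt (σ : Equiv.Perm GolayPt) {i : ℕ} (h : i < 24) : (toList σ).getD i 0 < 24 := by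
  rw [getD_toList_lt σ h]; exact (idx _).isLt

theorem toList_inj (σ : Equiv.Perm GolayPt) {i j : ℕ} (hi : i < 24) (hj : j < 24)
    (h : (toList σ).getD i 0 = (toList σ).getD j 0) : i = j := by
  rw [getD_toList_lt σ hi, getD_toList_lt σ hj] at h
  have h1 := congrArg idx (σ.injective (idx_injective (Fin.ext h)))
  rw [idx_pt, idx_pt] at h1
  exact congrArg Fin.val h1

theorem getD_toList_mul (σ τ : Equiv.Perm GolayPt) {i : ℕ} (h : i < 24) :
    (toList (σ * τ)).getD i 0 = (toList σ).getD ((toList τ).getD i 0) 0 := by
  rw [toList_mul, getD_comp _ (by rw [toList_length]; exact h)]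

theorem getD_one {i : ℕ} (h : i < 24) : (toList 1).getD i 0 = i := by
  rw [toList_one, List.getD_eq_getElem _ _ (by simpa using h), List.getElem_range]

/-- The elements found that lie in the group and commute with `x`. -/
def cosearch (inG : List ℕ → Bool) (x : List ℕ) (ss : List Stage) : List (List ℕ) :=
  (searchImg x 0 ss (List.replicate 24 0)).filter fun l => valid l && inG l && (comp l x == comp x l)

/-- The candidate lists contain every admissible image. -/
def candOK (ok : ℕ → ℕ → Bool) (ss : List Stage) : Bool :=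
  ss.all fun s => match s.1 with
    | [] => true
    | h :: _ => decide (h < 24) && (List.range 24).all fun y => !(ok h y) || s.2.2.contains y

variable {G : Subgroup (Equiv.Perm GolayPt)} {inG : List ℕ → Bool}

theorem mem_cosearch (hG : Tested G inG) {σ x : Equiv.Perm GolayPt} (hσ : σ ∈ G)
    (hc : σ * x = x * σ) {ss : List Stage} (hst : stagesOK (toList x) 0 ss = true)
    {ok : ℕ → ℕ → Bool} (hcand : candOK ok ss = true)
    (hok : ∀ h < 24, ok h ((toList σ).getD h 0) = true) :
    toList σ ∈ cosearch inG (toList x) ss := by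
  rw [cosearch, List.mem_filter]
  refine ⟨mem_searchImg_start (hG.le hσ) (x := x) (t := x) (by rw [hc, mul_inv_cancel_right]) rfl rfl hst
    (fun s hs c hc' => ?_), ?_⟩
  · have h1 := List.all_eq_true.mp hcand s hs
    cases hs1 : s.1 with
    | nil => rw [hs1] at hc'; simp at hc'
    | cons h t =>
      rw [hs1] at hc'
      simp only [List.head?_cons, Option.some.injEq] at hc'
      subst hc'
      simp only [hs1, Bool.and_eq_true, decide_eq_true_eq, List.all_eq_true, List.mem_range] at h1
      have h2 := h1.2 _ (toList_lt σ h1.1)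
      rw [hok h h1.1] at h2
      simpa using h2
  · have hv : valid (toList σ) = true := by
      have hlen := toList_length σ
      have hinv : invList (toList σ) = toList σ⁻¹ := by
        refine List.ext_getElem (by simp [invList, idL, toList_length]) fun i h1 h2 => ?_
        have hi : i < 24 := by simpa [toList_length] using h2
        simp only [invList, idL, List.getElem_map, List.getElem_range]
        have hv : (toList σ).getD ((toList σ⁻¹).getD i 0) 0 = i := by
          rw [← getD_toList_mul σ σ⁻¹ hi, mul_inv_cancel, getD_one hi]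
        rw [← List.getD_eq_getElem (toList σ⁻¹) 0 h2]
        set j := (toList σ⁻¹).getD i 0 with hj
        have hj24 : j < 24 := toList_lt _ hi
        have hmem : i ∈ toList σ := by
          rw [← hv, List.getD_eq_getElem _ _ (hlen ▸ hj24)]
          exact List.getElem_mem _
        have hlt : (toList σ).idxOf i < 24 := hlen ▸ List.idxOf_lt_length_of_mem hmem
        refine toList_inj σ hlt hj24 ?_
        rw [hv, List.getD_eq_getElem _ _ (hlen ▸ hlt), List.getElem_idxOf]
      simp only [valid, hinv, Bool.and_eq_true, beq_iff_eq, List.all_eq_true, Nat.ble_eq, idL]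
      refine ⟨⟨by rw [← toList_mul, mul_inv_cancel, toList_one],
        by rw [← toList_mul, inv_mul_cancel, toList_one]⟩, fun i hi => ?_⟩
      obtain ⟨k, hk, rfl⟩ := List.getElem_of_mem hi
      rw [← List.getD_eq_getElem _ 0 hk]
      exact toList_lt σ (hlen ▸ hk)
    rw [hv, (hG.mem σ).mp hσ, ← toList_mul, ← toList_mul, hc]
    simp

theorem of_mem_cosearch (hG : Tested G inG) {x : Equiv.Perm GolayPt} {ss : List Stage} {l : List ℕ}
    (h : l ∈ cosearch inG (toList x) ss) :
    ∃ σ ∈ G, toList σ = l ∧ σ * x = x * σ := by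
  simp only [cosearch, List.mem_filter, Bool.and_eq_true, beq_iff_eq] at h
  obtain ⟨-, ⟨hv, hin⟩, hc⟩ := h
  obtain ⟨σ, rfl⟩ := exists_perm_of_valid hv
  refine ⟨σ, (hG.mem σ).mpr hin, rfl, toList_injective ?_⟩
  rw [toList_mul, toList_mul, hc]

theorem getD_comm {σ x : Equiv.Perm GolayPt} (h : σ * x = x * σ) {i : ℕ} (hi : i < 24) :
    (toList x).getD ((toList σ).getD i 0) 0 = (toList σ).getD ((toList x).getD i 0) 0 := by
  rw [← getD_toList_mul x σ hi, ← h, getD_toList_mul σ x hi]

/-! ## Conjugation certificates -/

/-- `g` lies in the group and carries `x` to `l`. -/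
def conjOK (inG : List ℕ → Bool) (x l g : List ℕ) : Bool :=
  valid g && inG g && (comp g x == comp l g)

theorem isConj_of_conjOK (hG : Tested G inG) {x u : G} {g : List ℕ}
    (h : conjOK inG (toList x.1) (toList u.1) g = true) : IsConj x u := by
  simp only [conjOK, Bool.and_eq_true, beq_iff_eq] at h
  obtain ⟨⟨hv, hin⟩, hc⟩ := h
  obtain ⟨σ, rfl⟩ := exists_perm_of_valid hv
  refine isConj_iff.mpr ⟨⟨σ, (hG.mem σ).mpr hin⟩, ?_⟩
  rw [mul_inv_eq_iff_eq_mul]
  apply Subtype.ext
  apply toList_injective
  show toList (σ * x.1) = toList (u.1 * σ)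
  rw [toList_mul, toList_mul, hc]

/-- Each selected element of `E` is carried to by one of the representatives. -/
def coverOK (inG : List ℕ → Bool) (sel : List ℕ → Bool) (E reps : List (List ℕ))
    (certs : List (ℕ × List ℕ)) : Bool :=
  let F := E.filter sel
  Nat.beq F.length certs.length && (F.zip certs).all fun lc =>
    decide (lc.2.1 < reps.length) && conjOK inG (reps.getD lc.2.1 []) lc.1 lc.2.2

theorem exists_rep (hG : Tested G inG) {sel : List ℕ → Bool} {E reps : List (List ℕ)}
    {certs : List (ℕ × List ℕ)} (h : coverOK inG sel E reps certs = true) {u : G}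
    (hu : toList u.1 ∈ E) (hsel : sel (toList u.1) = true) :
    ∃ k < reps.length, ∀ x : G, toList x.1 = reps.getD k [] → IsConj x u := by
  simp only [coverOK, Bool.and_eq_true, List.all_eq_true, decide_eq_true_eq] at h
  obtain ⟨hlen, hall⟩ := h
  have hlen' := Nat.eq_of_beq_eq_true hlen
  have hm : toList u.1 ∈ E.filter sel := List.mem_filter.mpr ⟨hu, hsel⟩
  obtain ⟨i, hi, hie⟩ := List.getElem_of_mem hm
  have hz : ((E.filter sel)[i], certs[i]'(hlen' ▸ hi)) ∈ (E.filter sel).zip certs := by
    rw [← List.getElem_zip (h := by rw [List.length_zip, ← hlen', min_self]; exact hi)]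
    exact List.getElem_mem _
  obtain ⟨hk, hc⟩ := hall _ hz
  refine ⟨_, hk, fun x hx => isConj_of_conjOK hG (g := (certs[i]'(hlen' ▸ hi)).2) ?_⟩
  simp only [hie] at hc
  rw [hx]
  exact hc

end CfsgLib.MathieuBlocks
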